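import Mathlib
import Cfsg.Agent.Lib.Maximal.Derange

/-!
Derangements and two-point stabilisers.
-/

set_option autoImplicit false

namespace CfsgLib.Perm.DerangeTwo

open MulAction

variable {G Ω : Type*} [Group G] [MulAction G Ω]

/-- Number of fixed points. -/
noncomputable def f (Ω : Type*) {G : Type*} [Group G] [MulAction G Ω] (g : G) : ℕ :=
  Nat.card (fixedBy Ω g)

/-- Two-point stabiliser. -/
def H2 (G : Type*) {Ω : Type*} [Group G] [MulAction G Ω] (p q : Ω) : Subgroup G :=
  stabilizer G p ⊓ stabilizer G q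

theorem mem_H2 {g : G} {p q : Ω} : g ∈ H2 G p q ↔ g • p = p ∧ g • q = q := Iff.rfl

/-- The rank-at-least-three case. -/
theorem bound_of_not_two [Finite G] [Fintype Ω] [IsPretransitive G Ω] (hn : 2 ≤ Fintype.card Ω)
    (h2 : ¬ IsMultiplyPretransitive G Ω 2) :
    2 * Nat.card G ≤ Fintype.card Ω * Nat.card {g : G // ∀ ω : Ω, g • ω ≠ ω} := by
  classical
  haveI := Fintype.ofFinite G
  set n := Fintype.card Ω with hndef
  set D := Nat.card {g : G // ∀ ω : Ω, g • ω ≠ ω} with hD
  have hfle : ∀ g : G, f Ω g ≤ n := fun g => by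
    rw [hndef, ← Nat.card_eq_fintype_card]; exact Finite.card_subtype_le _
  have hf0 : ∀ g : G, f Ω g = 0 ↔ ∀ ω : Ω, g • ω ≠ ω := by
    intro g
    simp [f, Finite.card_eq_zero_iff, isEmpty_subtype]
  have hs1 : ∑ g : G, f Ω g = Fintype.card G := by
    unfold f
    rw [CfsgLib.Maximal.sum_fixed_eq_sum_stab (G := G) (Ω := Ω)]
    obtain ⟨a⟩ : Nonempty Ω := Fintype.card_pos_iff.1 (by omega)
    have hst : ∀ ω : Ω, Nat.card (stabilizer G ω) = Nat.card (stabilizer G a) := by
      intro ω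
      obtain ⟨g, rfl⟩ := exists_smul_eq G a ω
      exact Nat.card_congr (stabilizerEquivStabilizer (g := g) rfl).toEquiv.symm
    simp_rw [hst]
    rw [Finset.sum_const, Finset.card_univ, smul_eq_mul, ← hndef, ← Nat.card_eq_fintype_card (α := G),
      ← Subgroup.card_mul_index (stabilizer G a), index_stabilizer_of_transitive,
      Nat.card_eq_fintype_card (α := Ω), mul_comm]
  have hs2 : 3 * Fintype.card G ≤ ∑ g : G, f Ω g * f Ω g := by
    have h := sum_card_fixedBy_eq_card_orbits_mul_card_group G (Ω × Ω)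
    have hff : ∀ g : G, Fintype.card (fixedBy (Ω × Ω) g) = f Ω g * f Ω g := by
      intro g
      rw [f, ← Nat.card_eq_fintype_card, ← Nat.card_prod]
      refine Nat.card_congr (Equiv.trans (Equiv.subtypeEquivRight fun x => ?_) Equiv.subtypeProdEquivProd)
      rw [mem_fixedBy, Prod.ext_iff]; rfl
    simp_rw [hff] at h
    rw [h]
    refine Nat.mul_le_mul_right _ ?_
    rw [is_two_pretransitive_iff] at h2
    push Not at h2
    obtain ⟨a, b, c, d, hab, hcd, hne⟩ := h2
    have h3 : Fintype.card (Fin 3) ≤ Fintype.card (Quotient (orbitRel G (Ω × Ω))) := by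
      refine Fintype.card_le_of_injective
        ![(Quotient.mk'' (a, a) : Quotient (orbitRel G (Ω × Ω))), Quotient.mk'' (a, b), Quotient.mk'' (c, d)] ?_
      have key : ∀ x y : Ω × Ω, (Quotient.mk'' x : Quotient (orbitRel G (Ω × Ω))) = Quotient.mk'' y →
          ∃ g : G, g • y.1 = x.1 ∧ g • y.2 = x.2 := by
        intro x y hxy
        obtain ⟨g, hg⟩ : x ∈ orbit G y := orbitRel_apply.1 (Quotient.eq''.1 hxy)
        exact ⟨g, congrArg Prod.fst hg, congrArg Prod.snd hg⟩
      intro i j hij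
      fin_cases i <;> fin_cases j <;> first | rfl | (exfalso; simp at hij)
      · obtain ⟨g, h1, h2⟩ := key _ _ hij; exact hab (MulAction.injective g (h1.trans h2.symm))
      · obtain ⟨g, h1, h2⟩ := key _ _ hij; exact hcd (MulAction.injective g (h1.trans h2.symm))
      · obtain ⟨g, h1, h2⟩ := key _ _ hij.symm; exact hab (MulAction.injective g (h1.trans h2.symm))
      · obtain ⟨g, h1, h2⟩ := key _ _ hij.symm; exact hne g h1 h2
      · obtain ⟨g, h1, h2⟩ := key _ _ hij.symm; exact hcd (MulAction.injective g (h1.trans h2.symm))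
      · obtain ⟨g, h1, h2⟩ := key _ _ hij; exact hne g h1 h2
    simpa using h3
  have hpt : ∀ g : G, f Ω g * f Ω g + n ≤ (n + 1) * f Ω g + (if f Ω g = 0 then n else 0) := by
    intro g
    by_cases h : f Ω g = 0
    · simp [h]
    · have := hfle g
      rw [if_neg h]
      have : 1 ≤ f Ω g := Nat.one_le_iff_ne_zero.2 h
      nlinarith
  have hDsum : ∑ g : G, (if f Ω g = 0 then n else 0) = n * D := by
    rw [hD, Nat.card_eq_fintype_card, Fintype.card_subtype, Finset.sum_ite, Finset.sum_const_zero,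
      add_zero, Finset.sum_const, smul_eq_mul, mul_comm]
    simp_rw [hf0]
  have hsum := Finset.sum_le_sum (s := Finset.univ) fun g (_ : g ∈ Finset.univ) => hpt g
  simp only [Finset.sum_add_distrib, Finset.sum_const, Finset.card_univ, smul_eq_mul,
    ← Finset.mul_sum, hs1, hDsum] at hsum
  rw [Nat.card_eq_fintype_card]
  nlinarith

section Two

variable (h2 : IsMultiplyPretransitive G Ω 2)
include h2

theorem exists_pair {a b c d : Ω} (hab : a ≠ b) (hcd : c ≠ d) :
    ∃ g : G, g • a = c ∧ g • b = d := is_two_pretransitive_iff.1 h2 hab hcd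

theorem H2_equiv {a b c d : Ω} (hab : a ≠ b) (hcd : c ≠ d) :
    ∃ e : H2 G a b ≃* H2 G c d, ∃ g : G, g • a = c ∧ g • b = d ∧
      ∀ x : H2 G a b, (e x : G) = g * x * g⁻¹ := by
  obtain ⟨g, h1, h3⟩ := exists_pair h2 hab hcd
  refine ⟨⟨⟨fun x => ⟨g * x * g⁻¹, ?_⟩, fun y => ⟨g⁻¹ * y * g, ?_⟩, ?_, ?_⟩, ?_⟩, g, h1, h3, fun x => rfl⟩
  · rw [mem_H2, ← h1, ← h3]
    constructor <;> simp [mul_smul, (mem_H2.1 x.2).1, (mem_H2.1 x.2).2]
  · rw [mem_H2]
    have h := mem_H2.1 y.2
    constructor <;> rw [mul_smul, mul_smul]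
    · rw [h1, h.1, inv_smul_eq_iff, h1]
    · rw [h3, h.2, inv_smul_eq_iff, h3]
  · intro x; exact Subtype.ext (by simp [mul_assoc])
  · intro y; exact Subtype.ext (by simp [mul_assoc])
  · intro x y; exact Subtype.ext (by simp [mul_assoc])

theorem card_H2_eq {a b c d : Ω} (hab : a ≠ b) (hcd : c ≠ d) :
    Nat.card (H2 G a b) = Nat.card (H2 G c d) := by
  obtain ⟨e, -⟩ := H2_equiv h2 hab hcd
  exact Nat.card_congr e.toEquiv

/-- Double counting of pairs of fixed points. -/
theorem sum_weight [Fintype G] [Fintype Ω] [DecidableEq Ω] {a b : Ω} (hab : a ≠ b) [Fintype (H2 G a b)]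
    (φ : ℕ → ℚ) :
    ∑ g : G, ((f Ω g : ℚ) * ((f Ω g : ℚ) - 1)) * φ (f Ω g) =
      (Fintype.card Ω * ((Fintype.card Ω : ℚ) - 1)) * ∑ x : H2 G a b, φ (f Ω (x : G)) := by
  classical
  have hpairs : ∀ g : G, (f Ω g : ℚ) * ((f Ω g : ℚ) - 1) =
      ∑ p ∈ (Finset.univ : Finset Ω).offDiag, if g • p.1 = p.1 ∧ g • p.2 = p.2 then (1 : ℚ) else 0 := by
    intro g
    rw [Finset.sum_boole]
    have : (Finset.univ : Finset Ω).offDiag.filter (fun p => g • p.1 = p.1 ∧ g • p.2 = p.2) =
        (Finset.univ.filter fun x : Ω => g • x = x).offDiag := by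
      ext ⟨x, y⟩; simp; tauto
    rw [this, Finset.offDiag_card]
    have hf : f Ω g = (Finset.univ.filter fun x : Ω => g • x = x).card := by
      rw [f, Nat.card_eq_fintype_card, Fintype.card_subtype]; simp
    rw [← hf, Nat.cast_sub (Nat.le_mul_self _)]
    push_cast; ring
  simp_rw [hpairs, Finset.sum_mul]
  rw [Finset.sum_comm]
  have hconst : ∀ p ∈ (Finset.univ : Finset Ω).offDiag,
      ∑ g : G, (if g • p.1 = p.1 ∧ g • p.2 = p.2 then (1 : ℚ) else 0) * φ (f Ω g) =
      ∑ x : H2 G a b, φ (f Ω (x : G)) := by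
    intro p hp
    have hp' : p.1 ≠ p.2 := by simpa using hp
    obtain ⟨e, t, ht1, ht2, he⟩ := H2_equiv h2 hab hp'
    simp only [ite_mul, one_mul, zero_mul]
    rw [← Finset.sum_filter]
    refine (Finset.sum_bij (fun (x : H2 G a b) _ => ((e x : H2 G p.1 p.2) : G)) ?_ ?_ ?_ ?_).symm
    · intro x _; simpa using mem_H2.1 (e x).2
    · intro x _ y _ hxy; exact e.injective (Subtype.ext hxy)
    · intro g hg
      refine ⟨e.symm ⟨g, mem_H2.2 (by simpa using hg)⟩, Finset.mem_univ _, ?_⟩
      simp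
    · intro x _
      congr 1
      rw [he x]
      refine Nat.card_congr ⟨fun z => ⟨t • z.1, ?_⟩, fun z => ⟨t⁻¹ • z.1, ?_⟩, ?_, ?_⟩
      · have h0 := z.2
        rw [mem_fixedBy] at h0 ⊢
        rw [mul_smul, mul_smul, inv_smul_smul, h0]
      · have h0 := z.2
        rw [mem_fixedBy] at h0 ⊢
        rwa [mul_smul, mul_smul, ← eq_inv_smul_iff] at h0
      · intro z; exact Subtype.ext (inv_smul_smul t _)
      · intro z; exact Subtype.ext (smul_inv_smul t _)
  rw [Finset.sum_congr rfl hconst, Finset.sum_const, Finset.offDiag_card, Finset.card_univ, nsmul_eq_mul,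
    Nat.cast_sub (Nat.le_mul_self _)]
  push_cast; ring

omit h2 in
theorem two_le_f [Finite Ω] {a b : Ω} (hab : a ≠ b) {g : G} (hg : g ∈ H2 G a b) : 2 ≤ f Ω g := by
  have h1 : 1 < Nat.card (fixedBy Ω g) := by
    rw [Finite.one_lt_card_iff_nontrivial]
    exact ⟨⟨a, (mem_H2.1 hg).1⟩, ⟨b, (mem_H2.1 hg).2⟩, fun h => hab (congrArg Subtype.val h)⟩
  exact h1

/-- The number of derangements and the order of a two-transitive group. -/
theorem card_formulas [Fintype G] [Fintype Ω] [DecidableEq Ω] {a b : Ω} (hab : a ≠ b) [Fintype (H2 G a b)] :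
    (Nat.card {g : G // ∀ ω : Ω, g • ω ≠ ω} : ℚ) =
      (Fintype.card Ω * ((Fintype.card Ω : ℚ) - 1)) * ∑ x : H2 G a b, (1 / (f Ω (x : G)) : ℚ) ∧
    (Fintype.card G : ℚ) =
      (Fintype.card Ω * ((Fintype.card Ω : ℚ) - 1)) * (Nat.card (H2 G a b) : ℚ) := by
  classical
  haveI : IsPretransitive G Ω := isPretransitive_of_is_two_pretransitive
  have hf0 : ∀ g : G, f Ω g = 0 ↔ ∀ ω : Ω, g • ω ≠ ω := by
    intro g
    simp [f, Finite.card_eq_zero_iff, isEmpty_subtype]
  have hs1 : (∑ g : G, (f Ω g : ℚ)) = (Fintype.card G : ℚ) := by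
    have h := sum_card_fixedBy_eq_card_orbits_mul_card_group G Ω
    haveI : Nonempty Ω := ⟨a⟩
    have h1 : Fintype.card (Quotient (orbitRel G Ω)) = 1 := by
      have hsub : Subsingleton (Quotient (orbitRel G Ω)) := ⟨fun x y => Quotient.inductionOn₂' x y
        fun u v => Quotient.eq''.2 (orbitRel_apply.2 (exists_smul_eq G v u))⟩
      exact Fintype.card_eq_one_iff.2 ⟨Quotient.mk'' a, fun y => Subsingleton.elim _ _⟩
    rw [h1, one_mul] at h
    rw [← h, Nat.cast_sum]
    exact Finset.sum_congr rfl fun g _ => by rw [f, Nat.card_eq_fintype_card]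
  constructor
  · rw [← sum_weight h2 hab (fun m => (1 / (m : ℚ)))]
    have : ∀ g : G, (f Ω g : ℚ) * ((f Ω g : ℚ) - 1) * (1 / (f Ω g : ℚ)) =
        ((f Ω g : ℚ) - 1) + (if f Ω g = 0 then (1 : ℚ) else 0) := by
      intro g
      by_cases h : f Ω g = 0
      · simp [h]
      · rw [if_neg h]; field_simp; ring
    simp_rw [this]
    rw [Finset.sum_add_distrib, Finset.sum_sub_distrib, hs1, Finset.sum_boole, Finset.sum_const,
      Finset.card_univ, nsmul_eq_mul, mul_one, sub_self, zero_add, Nat.card_eq_fintype_card, Fintype.card_subtype]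
    simp_rw [hf0]
  · rw [Nat.card_eq_fintype_card]
    have := sum_weight h2 hab (fun _ => (1 : ℚ))
    simp only [mul_one, Finset.sum_const, Finset.card_univ, nsmul_eq_mul] at this
    rw [← this]
    -- the sum of f (f - 1) is |G|
    have hs2 : (∑ g : G, ((f Ω g : ℚ) * (f Ω g : ℚ))) = 2 * (Fintype.card G : ℚ) := by
      have h := sum_card_fixedBy_eq_card_orbits_mul_card_group G (Ω × Ω)
      have hff : ∀ g : G, Fintype.card (fixedBy (Ω × Ω) g) = f Ω g * f Ω g := by
        intro g
        rw [f, ← Nat.card_eq_fintype_card, ← Nat.card_prod]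
        refine Nat.card_congr (Equiv.trans (Equiv.subtypeEquivRight fun x => ?_) Equiv.subtypeProdEquivProd)
        rw [mem_fixedBy, Prod.ext_iff]; rfl
      simp_rw [hff] at h
      have hR : Fintype.card (Quotient (orbitRel G (Ω × Ω))) = 2 := by
        rw [← Fintype.card_fin 2]
        refine (Fintype.card_of_bijective (f := ![(Quotient.mk'' (a, a) : Quotient (orbitRel G (Ω × Ω))),
          Quotient.mk'' (a, b)]) ⟨?_, ?_⟩).symm
        · intro i j hij
          fin_cases i <;> fin_cases j <;> first | rfl | skip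
          · obtain ⟨g, hg⟩ : (a, a) ∈ orbit G (a, b) := orbitRel_apply.1 (Quotient.eq''.1 hij)
            exact absurd (MulAction.injective g ((congrArg Prod.fst hg).trans (congrArg Prod.snd hg).symm)) hab
          · obtain ⟨g, hg⟩ : (a, a) ∈ orbit G (a, b) := orbitRel_apply.1 (Quotient.eq''.1 hij.symm)
            exact absurd (MulAction.injective g ((congrArg Prod.fst hg).trans (congrArg Prod.snd hg).symm)) hab
        · intro z
          induction z using Quotient.inductionOn' with
          | h p =>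
            obtain ⟨x, y⟩ := p
            by_cases hxy : x = y
            · obtain ⟨g, hg⟩ := exists_smul_eq G x a
              exact ⟨0, Quotient.eq''.2 (orbitRel_apply.2 ⟨g, by simp [← hxy, hg]⟩)⟩
            · obtain ⟨g, h1, h3⟩ := exists_pair h2 hxy hab
              exact ⟨1, Quotient.eq''.2 (orbitRel_apply.2 ⟨g, by simp [h1, h3]⟩)⟩
      rw [hR] at h
      exact_mod_cast h
    simp only [mul_sub, mul_one, Finset.sum_sub_distrib, hs2, hs1]
    ring

end Two

end CfsgLib.Perm.DerangeTwo
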