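import Mathlib
import Cfsg.Agent.Lib.Perm.DerangeTwo.Count

/-!
The linear space of fixed point sets of two-point stabilisers, and the basic estimates.
-/

set_option autoImplicit false

namespace CfsgLib.Perm.DerangeTwo

open MulAction

variable {G Ω : Type*} [Group G] [MulAction G Ω]

/-- Common fixed points. -/
def fixs (Ω : Type*) {G : Type*} [Group G] [MulAction G Ω] (M : Subgroup G) : Set Ω :=
  {x | ∀ g ∈ M, g • x = x}

/-- The line through two points. -/
def line (G : Type*) {Ω : Type*} [Group G] [MulAction G Ω] (p q : Ω) : Set Ω := fixs Ω (H2 G p q)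

/-- A set closed under lines. -/
def IsFlat (G : Type*) {Ω : Type*} [Group G] [MulAction G Ω] (F : Set Ω) : Prop :=
  ∀ p ∈ F, ∀ q ∈ F, p ≠ q → line G p q ⊆ F

theorem left_mem_line (p q : Ω) : p ∈ line G p q := fun _ hg => (mem_H2.1 hg).1

theorem right_mem_line (p q : Ω) : q ∈ line G p q := fun _ hg => (mem_H2.1 hg).2

theorem flat_fixs (M : Subgroup G) : IsFlat G (fixs Ω M) := fun _ hp _ hq _ _ hx g hg =>
  hx g (mem_H2.2 ⟨hp g hg, hq g hg⟩)

theorem flat_fixedBy (g : G) : IsFlat G (fixedBy Ω g) := fun _ hp _ hq _ _ hx =>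
  hx g (mem_H2.2 ⟨hp, hq⟩)

theorem flat_univ : IsFlat G (Set.univ : Set Ω) := fun _ _ _ _ _ => Set.subset_univ _

section Two

variable [Finite G] (h2 : IsMultiplyPretransitive G Ω 2)
include h2

theorem H2_eq_of_mem_line {p q c d : Ω} (hpq : p ≠ q) (hc : c ∈ line G p q) (hd : d ∈ line G p q)
    (hcd : c ≠ d) : H2 G c d = H2 G p q := by
  have hle : H2 G p q ≤ H2 G c d := fun g hg => mem_H2.2 ⟨hc g hg, hd g hg⟩
  exact (Subgroup.eq_of_le_of_card_ge hle (card_H2_eq h2 hcd hpq).le).symm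

theorem line_eq_of_mem {p q c d : Ω} (hpq : p ≠ q) (hc : c ∈ line G p q) (hd : d ∈ line G p q)
    (hcd : c ≠ d) : line G c d = line G p q := by
  unfold line
  rw [H2_eq_of_mem_line h2 hpq hc hd hcd]

theorem ncard_line_eq {a b c d : Ω} (hab : a ≠ b) (hcd : c ≠ d) :
    (line G a b).ncard = (line G c d).ncard := by
  obtain ⟨g, h1, h3⟩ := exists_pair h2 hab hcd
  have him : line G c d = (fun x => g • x) '' line G a b := by
    ext x
    constructor
    · intro hx
      refine ⟨g⁻¹ • x, fun t ht => ?_, smul_inv_smul g x⟩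
      have hm : g * t * g⁻¹ ∈ H2 G c d := by
        rw [mem_H2, ← h1, ← h3]
        constructor <;> simp [mul_smul, (mem_H2.1 ht).1, (mem_H2.1 ht).2]
      have := hx _ hm
      rw [mul_smul, mul_smul, ← eq_inv_smul_iff] at this
      exact this
    · rintro ⟨y, hy, rfl⟩ t ht
      have hm : g⁻¹ * t * g ∈ H2 G a b := by
        rw [mem_H2]
        constructor <;> rw [mul_smul, mul_smul]
        · rw [h1, (mem_H2.1 ht).1, inv_smul_eq_iff, h1]
        · rw [h3, (mem_H2.1 ht).2, inv_smul_eq_iff, h3]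
      have := hy _ hm
      rw [mul_smul, mul_smul, inv_smul_eq_iff] at this
      exact this
  rw [him, Set.ncard_image_of_injective _ (MulAction.injective g)]

variable [Fintype Ω]

/-- A flat properly inside another is small. -/
theorem flat_step {a b : Ω} (hab : a ≠ b) {F F' : Set Ω} (hF : IsFlat G F) (hF' : IsFlat G F')
    (hFF : F ⊆ F') {p : Ω} (hp : p ∈ F') (hpF : p ∉ F) :
    ((line G a b).ncard - 1) * F.ncard + 1 ≤ F'.ncard := by
  classical
  have hinj : ∀ u ∈ F, ∀ v ∈ F, ∀ x, x ≠ p → x ∈ line G p u → x ∈ line G p v → u = v := by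
    intro u hu v hv x hxp hxu hxv
    by_contra huv
    have hpu : p ≠ u := fun h => hpF (h ▸ hu)
    have hpv : p ≠ v := fun h => hpF (h ▸ hv)
    have e1 := line_eq_of_mem h2 hpu (left_mem_line p u) hxu (Ne.symm hxp)
    have e2 := line_eq_of_mem h2 hpv (left_mem_line p v) hxv (Ne.symm hxp)
    have hv' : v ∈ line G p u := by rw [← e1, e2]; exact right_mem_line p v
    have e3 := line_eq_of_mem h2 hpu (right_mem_line p u) hv' huv
    exact hpF (hF u hu v hv huv (e3 ▸ left_mem_line p u))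
  set U : Finset Ω := F.toFinset.biUnion fun u => (line G p u).toFinset.erase p
  have hU : U.card = ((line G a b).ncard - 1) * F.ncard := by
    rw [Finset.card_biUnion]
    · rw [Set.ncard_eq_toFinset_card' F, mul_comm, ← smul_eq_mul]
      refine Finset.sum_const_nat fun u hu => ?_
      have hu' : u ∈ F := Set.mem_toFinset.1 hu
      have hpu : p ≠ u := fun h => hpF (h ▸ hu')
      rw [Finset.card_erase_of_mem (Set.mem_toFinset.2 (left_mem_line p u)),
        ← Set.ncard_eq_toFinset_card', ncard_line_eq h2 hpu hab]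
    · intro u hu v hv huv
      rw [Function.onFun, Finset.disjoint_left]
      intro x hx hx'
      simp only [Finset.mem_erase, Set.mem_toFinset] at hx hx'
      exact huv (hinj u (by simpa using hu) v (by simpa using hv) x hx.1 hx.2 hx'.2)
  have hsub : U ⊆ F'.toFinset.erase p := by
    intro x hx
    simp only [U, Finset.mem_biUnion, Finset.mem_erase, Set.mem_toFinset] at hx ⊢
    obtain ⟨u, hu, hxp, hxu⟩ := hx
    exact ⟨hxp, hF' p hp u (hFF hu) (fun h => hpF (h ▸ hu)) hxu⟩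
  have hle := Finset.card_le_card hsub
  rw [hU, Finset.card_erase_of_mem (Set.mem_toFinset.2 hp), ← Set.ncard_eq_toFinset_card'] at hle
  have : 0 < F'.ncard := (Set.ncard_pos (Set.toFinite _)).2 ⟨p, hp⟩
  omega

/-- The lines through a point of a flat partition the rest of it. -/
theorem flat_dvd {a b : Ω} (hab : a ≠ b) {F : Set Ω} (hF : IsFlat G F) {p : Ω} (hp : p ∈ F) :
    (line G a b).ncard - 1 ∣ F.ncard - 1 := by
  classical
  set A : Finset Ω := F.toFinset.erase p
  have hA : A.card = F.ncard - 1 := by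
    rw [Finset.card_erase_of_mem (Set.mem_toFinset.2 hp), ← Set.ncard_eq_toFinset_card']
  rw [← hA, Finset.card_eq_sum_card_fiberwise (f := fun x => line G p x) (t := A.image fun x => line G p x)
    (fun x hx => Finset.mem_image_of_mem _ hx)]
  refine Finset.dvd_sum fun L hL => ?_
  obtain ⟨x, hx, rfl⟩ := Finset.mem_image.1 hL
  obtain ⟨hxp, hxF⟩ : x ≠ p ∧ x ∈ F := by simpa [A] using hx
  have : A.filter (fun y => line G p y = line G p x) = (line G p x).toFinset.erase p := by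
    ext y
    simp only [A, Finset.mem_filter, Finset.mem_erase, Set.mem_toFinset]
    constructor
    · rintro ⟨⟨h1, -⟩, h3⟩; exact ⟨h1, h3 ▸ right_mem_line p y⟩
    · rintro ⟨h1, h3⟩
      exact ⟨⟨h1, hF p hp x hxF hxp.symm h3⟩,
        line_eq_of_mem h2 hxp.symm (left_mem_line p x) h3 h1.symm⟩
  rw [this, Finset.card_erase_of_mem (Set.mem_toFinset.2 (left_mem_line p x)),
    ← Set.ncard_eq_toFinset_card', ncard_line_eq h2 hxp.symm hab]

/-- The lines partition the pairs. -/
theorem pairs_dvd {a b : Ω} (hab : a ≠ b) :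
    (line G a b).ncard * (line G a b).ncard - (line G a b).ncard ∣
      Fintype.card Ω * Fintype.card Ω - Fintype.card Ω := by
  classical
  set A : Finset (Ω × Ω) := (Finset.univ : Finset Ω).offDiag
  have hA : A.card = Fintype.card Ω * Fintype.card Ω - Fintype.card Ω := by
    rw [Finset.offDiag_card, Finset.card_univ]
  let ln : Ω × Ω → Set Ω := fun x => line G x.1 x.2
  have hmaps : ∀ x ∈ A, ln x ∈ A.image ln := fun x hx => Finset.mem_image_of_mem ln hx
  rw [← hA, Finset.card_eq_sum_card_fiberwise (f := ln) (t := A.image ln) hmaps]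
  refine Finset.dvd_sum fun L hL => ?_
  obtain ⟨⟨x, y⟩, hx, rfl⟩ := Finset.mem_image.1 hL
  have hxy : x ≠ y := by simpa [A] using hx
  show _ ∣ (A.filter fun z => line G z.1 z.2 = line G x y).card
  have : A.filter (fun z => line G z.1 z.2 = line G x y) = (line G x y).toFinset.offDiag := by
    ext ⟨u, v⟩
    simp only [A, Finset.mem_filter, Finset.mem_offDiag, Finset.mem_univ, true_and, Set.mem_toFinset]
    constructor
    · rintro ⟨h1, h3⟩; exact ⟨h3 ▸ left_mem_line u v, h3 ▸ right_mem_line u v, h1⟩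
    · rintro ⟨h1, h3, h4⟩; exact ⟨h4, line_eq_of_mem h2 hxy h1 h3 h4⟩
  rw [this, Finset.offDiag_card, ← Set.ncard_eq_toFinset_card', ncard_line_eq h2 hxy hab]

/-- A non-identity element fixing two points fixes few. -/
theorem f_bound [FaithfulSMul G Ω] {a b : Ω} (hab : a ≠ b) {g : G} (hg : g ≠ 1) :
    ((line G a b).ncard - 1) * f Ω g + 1 ≤ Fintype.card Ω := by
  obtain ⟨p, hp⟩ : ∃ p : Ω, g • p ≠ p := by
    by_contra h
    push Not at h
    exact hg (eq_of_smul_eq_smul (α := Ω) fun x => by rw [h, one_smul])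
  have := flat_step h2 hab (flat_fixedBy (Ω := Ω) g) flat_univ (Set.subset_univ _) (Set.mem_univ p) hp
  rwa [Set.ncard_univ, Nat.card_eq_fintype_card, ← Nat.card_coe_set_eq] at this

end Two

/-- The goal, as a property of a two-point stabiliser. -/
def Good (Ω : Type*) [Fintype Ω] {G : Type*} [Group G] [MulAction G Ω] (H : Subgroup G) [Fintype H] : Prop :=
  2 * (Fintype.card H : ℚ) ≤ ∑ x : H, (Fintype.card Ω : ℚ) * (1 / (f Ω (x : G)))

variable [Fintype Ω]

theorem f_one : f Ω (1 : G) = Fintype.card Ω := by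
  simp [f, fixedBy_one_eq_univ, Nat.card_eq_fintype_card]

theorem Good.conclude [Fintype G] [DecidableEq Ω] (h2 : IsMultiplyPretransitive G Ω 2) {a b : Ω}
    (hab : a ≠ b) [Fintype (H2 G a b)] (hgood : Good Ω (H2 G a b)) :
    2 * Nat.card G ≤ Fintype.card Ω * Nat.card {g : G // ∀ ω : Ω, g • ω ≠ ω} := by
  obtain ⟨hD, hG⟩ := card_formulas h2 hab
  have hn : (2 : ℚ) ≤ Fintype.card Ω := by
    exact_mod_cast Fintype.one_lt_card_iff.2 ⟨a, b, hab⟩
  have hN : (0 : ℚ) ≤ (Fintype.card Ω : ℚ) * ((Fintype.card Ω : ℚ) - 1) := by nlinarith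
  have h := mul_le_mul_of_nonneg_left hgood hN
  rw [← Finset.mul_sum] at h
  have : (2 : ℚ) * (Nat.card G : ℚ) ≤
      (Fintype.card Ω : ℚ) * (Nat.card {g : G // ∀ ω : Ω, g • ω ≠ ω} : ℚ) := by
    rw [Nat.card_eq_fintype_card (α := G), hD, hG, Nat.card_eq_fintype_card (α := H2 G a b)]
    nlinarith
  exact_mod_cast this

theorem good_of_bound {a b : Ω} (hab : a ≠ b) [Fintype (H2 G a b)]
    (h1 : 1 < Fintype.card (H2 G a b)) (m : ℕ)
    (hm : ∀ x ∈ H2 G a b, x ≠ 1 → f Ω x ≤ m)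
    (hh : (2 * Fintype.card (H2 G a b) - 1) * m ≤ (Fintype.card (H2 G a b) - 1) * Fintype.card Ω) :
    Good Ω (H2 G a b) := by
  classical
  set h := Fintype.card (H2 G a b) with hhd
  have hn : (0 : ℚ) < Fintype.card Ω := by exact_mod_cast Fintype.card_pos_iff.2 ⟨a⟩
  have hh1 : 1 ≤ h := Fintype.card_pos
  unfold Good
  rw [← Finset.sum_erase_add _ _ (Finset.mem_univ (1 : H2 G a b)), OneMemClass.coe_one, f_one,
    mul_one_div, div_self hn.ne']
  have hcard : ((Finset.univ.erase (1 : H2 G a b)).card : ℚ) = (h : ℚ) - 1 := by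
    rw [Finset.card_erase_of_mem (Finset.mem_univ _), Finset.card_univ, Nat.cast_sub hh1, Nat.cast_one]
  have hm2 : 2 ≤ m := by
    obtain ⟨x, hx⟩ := Fintype.exists_ne_of_one_lt_card h1 (1 : H2 G a b)
    exact (two_le_f hab x.2).trans (hm x x.2 fun h => hx (Subtype.ext h))
  have hle : ∀ x ∈ Finset.univ.erase (1 : H2 G a b),
      (Fintype.card Ω : ℚ) / m ≤ (Fintype.card Ω : ℚ) * (1 / (f Ω (x : G))) := by
    intro x hx
    rw [mul_one_div]
    have h2f := two_le_f hab x.2
    refine div_le_div_of_nonneg_left hn.le (by exact_mod_cast (by omega : 0 < f Ω (x : G))) ?_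
    exact_mod_cast hm x x.2 fun h => (Finset.mem_erase.1 hx).1 (Subtype.ext h)
  have hs := Finset.sum_le_sum hle
  rw [Finset.sum_const, nsmul_eq_mul, hcard] at hs
  have hh' : ((2 * h - 1 : ℕ) : ℚ) * m ≤ ((h - 1 : ℕ) : ℚ) * Fintype.card Ω := by exact_mod_cast hh
  rw [Nat.cast_sub (by omega), Nat.cast_sub hh1] at hh'
  push_cast at hh'
  have hm0 : (0 : ℚ) < m := by exact_mod_cast (by omega : 0 < m)
  have : (2 * (h : ℚ) - 1) ≤ ((h : ℚ) - 1) * (Fintype.card Ω / m) := by
    rw [← mul_div_assoc, le_div_iff₀ hm0]; exact hh'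
  linarith

/-- The weight sum. -/
noncomputable def S1 (Ω : Type*) [Fintype Ω] {G : Type*} [Group G] [MulAction G Ω] (H : Subgroup G) : ℕ :=
  ∑ c : Ω, Nat.card ↥(H ⊓ stabilizer G c)

theorem sum_f_eq (H : Subgroup G) [Fintype H] : ∑ x : H, f Ω (x : G) = S1 Ω H := by
  have h := CfsgLib.Maximal.sum_fixed_eq_sum_stab (G := H) (Ω := Ω)
  refine h.trans ?_
  refine Finset.sum_congr rfl fun c _ => Nat.card_congr ⟨fun x => ⟨x.1.1, x.1.2, x.2⟩,
    fun x => ⟨⟨x.1, x.2.1⟩, x.2.2⟩, fun _ => rfl, fun _ => rfl⟩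

theorem good_of_S1 {a b : Ω} (hab : a ≠ b) [Fintype (H2 G a b)] (h1 : 1 < Fintype.card (H2 G a b))
    (hS : (2 * Fintype.card (H2 G a b) - 1) * S1 Ω (H2 G a b) ≤
      Fintype.card Ω * Fintype.card (H2 G a b) ^ 2) :
    Good Ω (H2 G a b) := by
  classical
  set h := Fintype.card (H2 G a b) with hhd
  have hn : (0 : ℚ) < Fintype.card Ω := by exact_mod_cast Fintype.card_pos_iff.2 ⟨a⟩
  unfold Good
  rw [← Finset.sum_erase_add _ _ (Finset.mem_univ (1 : H2 G a b)), OneMemClass.coe_one, f_one,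
    mul_one_div, div_self hn.ne', ← Finset.mul_sum]
  set E := Finset.univ.erase (1 : H2 G a b)
  have hcard : (E.card : ℚ) = (h : ℚ) - 1 := by
    rw [Finset.card_erase_of_mem (Finset.mem_univ _), Finset.card_univ, Nat.cast_sub (by omega), Nat.cast_one]
  have hT : (∑ x ∈ E, (f Ω (x : G) : ℚ)) = (S1 Ω (H2 G a b) : ℚ) - Fintype.card Ω := by
    rw [← sum_f_eq, Nat.cast_sum, ← Finset.sum_erase_add _ _ (Finset.mem_univ (1 : H2 G a b)),
      OneMemClass.coe_one, f_one]
    ring
  have hpos : ∀ x ∈ E, (0 : ℚ) < f Ω (x : G) := fun x _ => by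
    exact_mod_cast (lt_of_lt_of_le Nat.zero_lt_two (two_le_f hab x.2))
  have hEne : E.Nonempty := by
    obtain ⟨x, hx⟩ := Fintype.exists_ne_of_one_lt_card h1 (1 : H2 G a b)
    exact ⟨x, Finset.mem_erase.2 ⟨hx, Finset.mem_univ _⟩⟩
  have hTpos : (0 : ℚ) < ∑ x ∈ E, (f Ω (x : G) : ℚ) := Finset.sum_pos hpos hEne
  have hcs := Finset.sq_sum_div_le_sum_sq_div E (fun _ => (1 : ℚ)) hpos
  simp only [one_pow, Finset.sum_const, nsmul_eq_mul, mul_one, hcard] at hcs
  rw [hT] at hcs hTpos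
  have hS' : (((2 * h - 1) * S1 Ω (H2 G a b) : ℕ) : ℚ) ≤ ((Fintype.card Ω * h ^ 2 : ℕ) : ℚ) := by
    exact_mod_cast hS
  push_cast [Nat.cast_sub (show 1 ≤ 2 * h by omega)] at hS'
  have key : 2 * (h : ℚ) - 1 ≤ (Fintype.card Ω : ℚ) *
      (((h : ℚ) - 1) ^ 2 / ((S1 Ω (H2 G a b) : ℚ) - Fintype.card Ω)) := by
    rw [← mul_div_assoc, le_div_iff₀ hTpos]
    nlinarith
  have := mul_le_mul_of_nonneg_left hcs hn.le
  linarith

end CfsgLib.Perm.DerangeTwo
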