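import Mathlib
import Cfsg.Agent.Lib.Perm.DerangeTwo.Lines

/-!
Orbit lengths of a two-point stabiliser with too many orbits.
-/

set_option autoImplicit false

namespace CfsgLib.Perm.DerangeTwo

open MulAction

variable {G Ω : Type*} [Group G] [MulAction G Ω]

/-- The orbit of a point. -/
def orb (H : Subgroup G) (c : Ω) : Set Ω := (fun g : G => g • c) '' (H : Set G)

theorem mem_orb_self (H : Subgroup G) (c : Ω) : c ∈ orb H c := ⟨1, H.one_mem, one_smul G c⟩

theorem smul_mem_orb {H : Subgroup G} {c : Ω} {g : G} (hg : g ∈ H) : g • c ∈ orb H c := ⟨g, hg, rfl⟩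

theorem orb_eq_orbit (H : Subgroup G) (c : Ω) : orb H c = orbit H c := by
  ext x
  constructor
  · rintro ⟨g, hg, rfl⟩; exact ⟨⟨g, hg⟩, rfl⟩
  · rintro ⟨g, rfl⟩; exact ⟨g, g.2, rfl⟩

theorem orb_eq_of_mem {H : Subgroup G} {c d : Ω} (hd : d ∈ orb H c) : orb H d = orb H c := by
  rw [orb_eq_orbit] at hd
  rw [orb_eq_orbit, orb_eq_orbit]
  exact orbit_eq_iff.2 hd

theorem ncard_orb_mul [Finite G] (H : Subgroup G) (c : Ω) :
    (orb H c).ncard * Nat.card ↥(H ⊓ stabilizer G c) = Nat.card H := by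
  have h := (stabilizer H c).index_mul_card
  rw [index_stabilizer, ← orb_eq_orbit] at h
  rw [← h]
  congr 1
  exact Nat.card_congr ⟨fun x => ⟨⟨x.1, x.2.1⟩, x.2.2⟩, fun x => ⟨x.1.1, x.1.2, x.2⟩,
    fun _ => rfl, fun _ => rfl⟩

theorem two_le_orb [Finite Ω] {H : Subgroup G} {c : Ω} (hc : c ∉ fixs Ω H) : 2 ≤ (orb H c).ncard := by
  simp only [fixs, Set.mem_ofPred_eq, not_forall] at hc
  obtain ⟨g, hg, hgc⟩ := hc
  exact (Set.one_lt_ncard (Set.toFinite _)).2 ⟨g • c, smul_mem_orb hg, c, mem_orb_self H c, hgc⟩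

theorem orb_two_eq [Finite Ω] {H : Subgroup G} {c : Ω} (h2 : (orb H c).ncard = 2) {g g' : G} (hg : g ∈ H)
    (hg' : g' ∈ H) (h : g • c ≠ c) (h' : g' • c ≠ c) : g • c = g' • c := by
  obtain ⟨x, y, hxy, he⟩ := Set.ncard_eq_two.1 h2
  have h1 := he ▸ smul_mem_orb (c := c) hg
  have h3 := he ▸ smul_mem_orb (c := c) hg'
  have h4 := he ▸ mem_orb_self H c
  simp only [Set.mem_insert_iff, Set.mem_singleton_iff] at h1 h3 h4
  grind

theorem sq_fix [Finite Ω] {H : Subgroup G} {c : Ω} (hc : (orb H c).ncard ≤ 2) {g : G} (hg : g ∈ H) :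
    g • g • c = c := by
  by_cases h : g • c = c
  · rw [h, h]
  · have hne : g • g • c ≠ g • c := fun e => h (MulAction.injective g e)
    have hm : g • g • c ∈ orb H c := by rw [← mul_smul]; exact smul_mem_orb (H.mul_mem hg hg)
    by_contra hcc
    have : 2 < (orb H c).ncard := (Set.two_lt_ncard_iff (Set.toFinite _)).2
      ⟨c, g • c, g • g • c, mem_orb_self H c, smul_mem_orb hg, hm, Ne.symm h, Ne.symm hcc, hne.symm⟩
    omega

variable [Finite G] [Fintype Ω]

/-- Many orbits force short orbits. -/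
theorem long_orbits (H : Subgroup G) (hV : Fintype.card Ω * Nat.card H < 2 * S1 Ω H) (T : Finset Ω)
    (hT : ∀ c ∈ T, c ∉ fixs Ω H) (hdis : ∀ c ∈ T, ∀ d ∈ T, c ≠ d → d ∉ orb H c) :
    ∑ c ∈ T, (((orb H c).ncard : ℤ) - 2) < ((fixs Ω H).ncard : ℤ) := by
  classical
  set w : Ω → ℤ := fun c => 2 * (Nat.card ↥(H ⊓ stabilizer G c) : ℤ) - (Nat.card H : ℤ) with hw
  have hh : (0 : ℤ) < Nat.card H := by exact_mod_cast Nat.card_pos
  have htot : 0 < ∑ c, w c := by
    simp only [hw, Finset.sum_sub_distrib, ← Finset.mul_sum, Finset.sum_const, Finset.card_univ, nsmul_eq_mul]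
    have h1 : (∑ c : Ω, (Nat.card ↥(H ⊓ stabilizer G c) : ℤ)) = (S1 Ω H : ℤ) := by rw [S1]; push_cast; rfl
    rw [h1]
    have : ((Fintype.card Ω * Nat.card H : ℕ) : ℤ) < ((2 * S1 Ω H : ℕ) : ℤ) := by exact_mod_cast hV
    push_cast at this
    linarith
  have hfix : ∀ c ∈ (fixs Ω H).toFinset, w c = (Nat.card H : ℤ) := by
    intro c hc
    rw [Set.mem_toFinset] at hc
    have : H ⊓ stabilizer G c = H := inf_eq_left.2 fun g hg => hc g hg
    simp only [hw, this]; ring
  have hneg : ∀ c, c ∉ fixs Ω H → w c ≤ 0 := by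
    intro c hc
    have h1 := ncard_orb_mul H c
    have h2 := two_le_orb hc
    simp only [hw]
    have : 2 * Nat.card ↥(H ⊓ stabilizer G c) ≤ Nat.card H := h1 ▸ Nat.mul_le_mul_right _ h2
    omega
  set U := T.biUnion fun c => (orb H c).toFinset
  have hUfix : Disjoint (fixs Ω H).toFinset U := by
    rw [Finset.disjoint_left]
    intro x hx hxU
    simp only [U, Finset.mem_biUnion, Set.mem_toFinset] at hxU hx
    obtain ⟨c, hc, g, hg, rfl⟩ := hxU
    refine hT c hc fun t ht => ?_
    have := hx (g * t * g⁻¹) (H.mul_mem (H.mul_mem hg ht) (H.inv_mem hg))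
    simp only [mul_smul, inv_smul_smul] at this
    exact MulAction.injective g this
  have hUsum : ∑ c ∈ U, w c = ∑ c ∈ T, (2 - ((orb H c).ncard : ℤ)) * Nat.card H := by
    rw [Finset.sum_biUnion]
    · refine Finset.sum_congr rfl fun c _ => ?_
      have hc := ncard_orb_mul H c
      have : ∀ d ∈ (orb H c).toFinset, w d = w c := by
        intro d hd
        rw [Set.mem_toFinset] at hd
        have hd' := ncard_orb_mul H d
        rw [orb_eq_of_mem hd] at hd'
        have hpos : 0 < (orb H c).ncard := (Set.ncard_pos (Set.toFinite _)).2 ⟨c, mem_orb_self H c⟩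
        have := Nat.eq_of_mul_eq_mul_left hpos (hd'.trans hc.symm)
        simp only [hw, this]
      rw [Finset.sum_congr rfl this, Finset.sum_const, ← Set.ncard_eq_toFinset_card', nsmul_eq_mul]
      have hc' : ((orb H c).ncard : ℤ) * Nat.card ↥(H ⊓ stabilizer G c) = Nat.card H := by exact_mod_cast hc
      simp only [hw, ← hc']; ring
    · intro c hc d hd hcd
      rw [Function.onFun, Finset.disjoint_left]
      intro x hx hx'
      simp only [Set.mem_toFinset] at hx hx'
      refine hdis c hc d hd hcd ?_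
      rw [← orb_eq_of_mem hx, orb_eq_of_mem hx']
      exact mem_orb_self H d
  have hrest : ∑ c ∈ Finset.univ \ ((fixs Ω H).toFinset ∪ U), w c ≤ 0 := by
    refine Finset.sum_nonpos fun c hc => hneg c ?_
    simp only [Finset.mem_sdiff, Finset.mem_union, Set.mem_toFinset] at hc
    exact fun h => hc.2 (Or.inl h)
  rw [← Finset.sum_sdiff (Finset.subset_univ ((fixs Ω H).toFinset ∪ U)), Finset.sum_union hUfix,
    Finset.sum_congr rfl hfix, Finset.sum_const, ← Set.ncard_eq_toFinset_card', nsmul_eq_mul,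
    hUsum, ← Finset.sum_mul] at htot
  have h3 : (0 : ℤ) < (((fixs Ω H).ncard : ℤ) + ∑ c ∈ T, (2 - ((orb H c).ncard : ℤ))) * Nat.card H := by
    linarith
  have h4 := pos_of_mul_pos_left h3 hh.le
  simp only [Finset.sum_sub_distrib] at h4 ⊢
  linarith

/-- The weight sum when all orbits are short except perhaps one. -/
theorem two_S1_short (H : Subgroup G) (hs : ∀ c, c ∉ fixs Ω H → (orb H c).ncard = 2) :
    2 * S1 Ω H = (Fintype.card Ω + (fixs Ω H).ncard) * Nat.card H := by
  classical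
  have hv : ∀ c : Ω, 2 * Nat.card ↥(H ⊓ stabilizer G c) =
      Nat.card H + if c ∈ fixs Ω H then Nat.card H else 0 := by
    intro c
    by_cases hc : c ∈ fixs Ω H
    · rw [if_pos hc, inf_eq_left.2 fun g hg => hc g hg, two_mul]
    · have := ncard_orb_mul H c
      rw [hs c hc] at this
      rw [if_neg hc]; omega
  rw [S1, Finset.mul_sum, Finset.sum_congr rfl fun c _ => hv c, Finset.sum_add_distrib, Finset.sum_ite,
    Finset.sum_const, Finset.sum_const, Finset.sum_const_zero, add_zero, Finset.card_univ, smul_eq_mul,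
    smul_eq_mul, Set.ncard_eq_toFinset_card', add_mul]
  congr 3
  ext; simp

end CfsgLib.Perm.DerangeTwo
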