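import Mathlib
import Cfsg.Agent.Lib.Perm.DerangeTwo.Orbits

/-!
No seven-point plane of the linear space carries a unique involution for each line.
-/

set_option autoImplicit false

namespace CfsgLib.Perm.DerangeTwo

open MulAction

variable {G Ω : Type*} [Group G] [Finite G] [MulAction G Ω] [Fintype Ω]

omit [Finite G] [Fintype Ω] in
theorem smul_mem_line {g : G} {p q x : Ω} (hx : x ∈ line G p q) : g • x ∈ line G (g • p) (g • q) := by
  intro t ht
  have hm : g⁻¹ * t * g ∈ H2 G p q := by
    rw [mem_H2]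
    constructor <;> rw [mul_smul, mul_smul]
    · rw [(mem_H2.1 ht).1, inv_smul_smul]
    · rw [(mem_H2.1 ht).2, inv_smul_smul]
  have := hx _ hm
  rw [mul_smul, mul_smul, inv_smul_eq_iff] at this
  exact this

theorem no_seven (h2 : IsMultiplyPretransitive G Ω 2) {a b : Ω} (hab : a ≠ b)
    (hk : (line G a b).ncard = 3) (hsq : ∀ p q : Ω, p ≠ q → ∀ x ∈ H2 G p q, x * x = 1) (M : Subgroup G)
    (hM : M ≤ H2 G a b) (hcard : Nat.card (H2 G a b) = 2 * Nat.card M)
    (h7 : (fixs Ω M).ncard = 7) : False := by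
  classical
  set Ψ := fixs Ω M with hΨ
  have hflat : IsFlat G Ψ := flat_fixs M
  have haΨ : a ∈ Ψ := fun g hg => (mem_H2.1 (hM hg)).1
  have hbΨ : b ∈ Ψ := fun g hg => (mem_H2.1 (hM hg)).2
  have hk3 : ∀ p q : Ω, p ≠ q → (line G p q).ncard = 3 := fun p q hpq => by rw [ncard_line_eq h2 hpq hab, hk]
  have hthree : ∀ p q u : Ω, p ≠ q → u ∈ line G p q → u ≠ p → u ≠ q → ∀ x ∈ line G p q, x = p ∨ x = q ∨ x = u := by
    intro p q u hpq hu hup huq x hx
    by_contra hcon
    push Not at hcon
    have : ({p, q, u, x} : Finset Ω).card ≤ (line G p q).toFinset.card := by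
      refine Finset.card_le_card fun y hy => ?_
      simp only [Finset.mem_insert, Finset.mem_singleton] at hy
      rw [Set.mem_toFinset]
      rcases hy with rfl | rfl | rfl | rfl
      · exact left_mem_line _ _
      · exact right_mem_line _ _
      · exact hu
      · exact hx
    rw [← Set.ncard_eq_toFinset_card', hk3 p q hpq] at this
    simp [Finset.card_insert_of_notMem, hpq, hup.symm, huq.symm, Ne.symm hcon.1, Ne.symm hcon.2.1,
      Ne.symm hcon.2.2] at this
  have hcomm : ∀ p q : Ω, p ≠ q → ∀ x ∈ H2 G p q, ∀ y ∈ H2 G p q, x * y = y * x := by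
    intro p q hpq x hx y hy
    have h1 := hsq p q hpq _ ((H2 G p q).mul_mem hx hy)
    have h3 := hsq p q hpq x hx
    have h4 := hsq p q hpq y hy
    calc x * y = x * (x * y * (x * y)) * y := by rw [h1, mul_one]
      _ = (x * x) * (y * x) * (y * y) := by group
      _ = y * x := by rw [h3, h4, one_mul, mul_one]
  have hMle : ∀ p ∈ Ψ, ∀ q ∈ Ψ, M ≤ H2 G p q := fun p hp q hq g hg => mem_H2.2 ⟨hp g hg, hq g hg⟩
  have hidx : ∀ p ∈ Ψ, ∀ q ∈ Ψ, p ≠ q → ∀ g ∈ H2 G p q, g ∉ M → ∀ g' ∈ H2 G p q, g' ∉ M → g⁻¹ * g' ∈ M := by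
    intro p hp q hq hpq g hg hgM g' hg' hgM'
    have h2' : (M.subgroupOf (H2 G p q)).index = 2 := by
      have h := (M.subgroupOf (H2 G p q)).card_mul_index
      rw [Nat.card_congr (Subgroup.subgroupOfEquivOfLe (hMle p hp q hq)).toEquiv, card_H2_eq h2 hpq hab,
        hcard, mul_comm 2] at h
      exact Nat.eq_of_mul_eq_mul_left Nat.card_pos h
    have := (Subgroup.mul_mem_iff_of_index_two h2' (a := (⟨g, hg⟩ : H2 G p q)⁻¹) (b := ⟨g', hg'⟩)).2
      (by simp only [Subgroup.mem_subgroupOf, InvMemClass.coe_inv, Subgroup.inv_mem_iff]; tauto)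
    exact this
  have hexg : ∀ p ∈ Ψ, ∀ q ∈ Ψ, p ≠ q → ∃ g ∈ H2 G p q, g ∉ M := by
    intro p hp q hq hpq
    by_contra h
    push Not at h
    have := Subgroup.card_le_of_le (show H2 G p q ≤ M from h)
    rw [card_H2_eq h2 hpq hab, hcard] at this
    have := Nat.card_pos (α := M)
    omega
  -- the involution of a line moves everything off it
  have hmove : ∀ p ∈ Ψ, ∀ q ∈ Ψ, p ≠ q → ∀ g ∈ H2 G p q, g ∉ M → ∀ c ∈ Ψ, g • c = c → c ∈ line G p q := by
    intro p hp q hq hpq g hg hgM c hc hgc x hx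
    by_cases hxM : x ∈ M
    · exact hc x hxM
    · have := hc _ (hidx p hp q hq hpq g hg hgM x hx hxM)
      rwa [mul_smul, inv_smul_eq_iff, hgc] at this
  have hpres : ∀ p ∈ Ψ, ∀ q ∈ Ψ, p ≠ q → ∀ g ∈ H2 G p q, ∀ c ∈ Ψ, g • c ∈ Ψ := by
    intro p hp q hq hpq g hg c hc m hm
    rw [← mul_smul, hcomm p q hpq m (hMle p hp q hq hm) g hg, mul_smul, hc m hm]
  have hinv : ∀ p q : Ω, p ≠ q → ∀ g ∈ H2 G p q, ∀ c : Ω, g • g • c = c := fun p q hpq g hg c => by
    rw [← mul_smul, hsq p q hpq g hg, one_smul]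
  let Cen : Ω → Ω → Ω → Prop := fun p q e => e ∈ line G p q ∧
    ∀ g ∈ H2 G p q, g ∉ M → ∀ c ∈ Ψ, c ∉ line G p q → g • c ∈ line G e c
  have hexC : ∀ p ∈ Ψ, ∀ q ∈ Ψ, p ≠ q → ∃ e, Cen p q e := by
    intro p hp q hq hpq
    obtain ⟨g, hg, hgM⟩ := hexg p hp q hq hpq
    have hL : line G p q ⊆ Ψ := hflat p hp q hq hpq
    obtain ⟨c, hc, hcL⟩ : ∃ c ∈ Ψ, c ∉ line G p q := by
      by_contra h
      push Not at h
      have := Set.ncard_le_ncard h (Set.toFinite _)
      rw [h7, hk3 p q hpq] at this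
      omega
    set d := g • c with hd
    have hdc : d ≠ c := fun h => hcL (hmove p hp q hq hpq g hg hgM c hc h)
    have hdΨ : d ∈ Ψ := hpres p hp q hq hpq g hg c hc
    have hgd : g • d = c := hinv p q hpq g hg c
    have hdL : d ∉ line G p q := fun h => hdc (by rw [← hgd]; exact (h g hg).symm)
    obtain ⟨e, he, hec, hed⟩ : ∃ e ∈ line G c d, e ≠ c ∧ e ≠ d := by
      by_contra h
      push Not at h
      have hsub : line G c d ⊆ {c, d} := fun x hx => by
        by_cases hx1 : x = c
        · exact Or.inl hx1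
        · exact Or.inr (h x hx hx1)
      have := Set.ncard_le_ncard hsub (Set.toFinite _)
      rw [hk3 c d hdc.symm, Set.ncard_pair hdc.symm] at this
      omega
    have heΨ : e ∈ Ψ := hflat c hc d hdΨ hdc.symm he
    have hge : g • e = e := by
      have h1 := smul_mem_line (g := g) he
      rw [← hd, hgd] at h1
      rw [line_eq_of_mem h2 hdc.symm (right_mem_line c d) (left_mem_line c d) hdc] at h1
      rcases hthree c d e hdc.symm he hec hed _ h1 with h | h | h
      · exact absurd (MulAction.injective g (h.trans hgd.symm)) hed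
      · exact absurd (MulAction.injective g (h.trans hd)) hec
      · exact h
    have heL : e ∈ line G p q := hmove p hp q hq hpq g hg hgM e heΨ hge
    refine ⟨e, heL, fun g' hg' hgM' c' hc' hcL' => ?_⟩
    have hsame : g' • c' = g • c' := by
      have := hc' _ (hidx p hp q hq hpq g hg hgM g' hg' hgM')
      rwa [mul_smul, inv_smul_eq_iff] at this
    rw [hsame]
    set d' := g • c' with hd'
    have hdc' : d' ≠ c' := fun h => hcL' (hmove p hp q hq hpq g hg hgM c' hc' h)
    have hdΨ' : d' ∈ Ψ := hpres p hp q hq hpq g hg c' hc'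
    have hec' : e ≠ c' := fun h => hcL' (h ▸ heL)
    have hed' : e ≠ d' := fun h => hdc' (by
      have : g • c' = g • e := by rw [hge, h]
      rw [← h, ← MulAction.injective g this])
    by_cases hcc : c' = c
    · subst hcc
      rw [line_eq_of_mem h2 hdc.symm he (left_mem_line c' d) hec]
      exact right_mem_line c' d
    by_cases hcd : c' = d
    · have : d' = c := by rw [hd', hcd, hgd]
      rw [this, hcd, line_eq_of_mem h2 hdc.symm he (right_mem_line c d) hed]
      exact left_mem_line c d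
    -- the four points off the line
    have hfour : ∀ z ∈ Ψ, z ∉ line G p q → z = c ∨ z = d ∨ z = c' ∨ z = d' := by
      intro z hz hzL
      by_contra hcon
      push Not at hcon
      have hd'c : d' ≠ c := fun h => hcd (by rw [← hinv p q hpq g hg c', ← hd', h])
      have hd'd : d' ≠ d := fun h => hcc (MulAction.injective g h)
      have hd'L : d' ∉ line G p q := fun h => hdc' (by
        have := h g hg
        rw [hd', hinv p q hpq g hg c'] at this
        exact this.symm)
      have hsub : ({z, c, d, c', d'} : Finset Ω) ⊆ Ψ.toFinset \ (line G p q).toFinset := by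
        intro y hy
        simp only [Finset.mem_insert, Finset.mem_singleton] at hy
        simp only [Finset.mem_sdiff, Set.mem_toFinset]
        rcases hy with rfl | rfl | rfl | rfl | rfl
        · exact ⟨hz, hzL⟩
        · exact ⟨hc, hcL⟩
        · exact ⟨hdΨ, hdL⟩
        · exact ⟨hc', hcL'⟩
        · exact ⟨hdΨ', hd'L⟩
      have := Finset.card_le_card hsub
      rw [Finset.card_sdiff_of_subset (Set.toFinset_subset_toFinset.2 hL), ← Set.ncard_eq_toFinset_card',
        ← Set.ncard_eq_toFinset_card', h7, hk3 p q hpq] at this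
      simp [Finset.card_insert_of_notMem, hcon.1, hcon.2.1, hcon.2.2.1, hcon.2.2.2, hdc.symm, Ne.symm hcc,
        Ne.symm hcd, hdc'.symm, hd'c.symm, hd'd.symm] at this
    obtain ⟨z, hz, hze, hzc⟩ : ∃ z ∈ line G e c', z ≠ e ∧ z ≠ c' := by
      by_contra h
      push Not at h
      have hsub : line G e c' ⊆ {e, c'} := fun x hx => by
        by_cases hx1 : x = e
        · exact Or.inl hx1
        · exact Or.inr (h x hx hx1)
      have := Set.ncard_le_ncard hsub (Set.toFinite _)
      rw [hk3 e c' hec', Set.ncard_pair hec'] at this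
      omega
    have hzΨ : z ∈ Ψ := hflat e heΨ c' hc' hec' hz
    have hline := line_eq_of_mem h2 hec' (left_mem_line e c') hz hze.symm
    have hzL : z ∉ line G p q := fun h => hcL' (by
      rw [← line_eq_of_mem h2 hpq heL h hze.symm, hline]; exact right_mem_line e c')
    have hnot : ∀ w, (w = c ∨ w = d) → z ≠ w := by
      intro w hw hzw
      have hw' : w ∈ line G c d := by rcases hw with rfl | rfl <;> simp [left_mem_line, right_mem_line]
      have h1 := line_eq_of_mem h2 hdc.symm he hw' (hzw ▸ hze.symm)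
      rw [← hzw, hline] at h1
      have := h1 ▸ right_mem_line (G := G) e c'
      rcases hthree c d e hdc.symm he hec hed c' this with h | h | h
      · exact hcc h
      · exact hcd h
      · exact hec' h.symm
    rcases hfour z hzΨ hzL with h | h | h | h
    · exact absurd h (hnot c (Or.inl rfl))
    · exact absurd h (hnot d (Or.inr rfl))
    · exact absurd h hzc
    · exact h ▸ hz
  have huniq : ∀ p ∈ Ψ, ∀ q ∈ Ψ, p ≠ q → ∀ e e', Cen p q e → Cen p q e' → e = e' := by
    intro p hp q hq hpq e e' he he'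
    by_contra hne
    obtain ⟨g, hg, hgM⟩ := hexg p hp q hq hpq
    obtain ⟨c, hc, hcL⟩ : ∃ c ∈ Ψ, c ∉ line G p q := by
      by_contra h
      push Not at h
      have := Set.ncard_le_ncard h (Set.toFinite _)
      rw [h7, hk3 p q hpq] at this
      omega
    have hgc : g • c ≠ c := fun h => hcL (hmove p hp q hq hpq g hg hgM c hc h)
    have h1 := line_eq_of_mem h2 (fun h => hcL (by rw [← h]; exact he.1)) (he.2 g hg hgM c hc hcL) (right_mem_line e c) hgc
    have h3 := line_eq_of_mem h2 (fun h => hcL (by rw [← h]; exact he'.1)) (he'.2 g hg hgM c hc hcL) (right_mem_line e' c) hgc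
    have he'mem : e' ∈ line G e c := by rw [← h1, h3]; exact left_mem_line e' c
    have h4 := line_eq_of_mem h2 (fun h => hcL (by rw [← h]; exact he.1)) (left_mem_line e c) he'mem hne
    exact hcL (by rw [← line_eq_of_mem h2 hpq he.1 he'.1 hne, h4]; exact right_mem_line e c)
  have htrans : ∀ p q r s : Ω, p ≠ q → r ≠ s → r ∈ line G p q → s ∈ line G p q → ∀ e, Cen p q e → Cen r s e := by
    intro p q r s hpq hrs hr hs e he
    refine ⟨?_, ?_⟩
    · rw [line_eq_of_mem h2 hpq hr hs hrs]; exact he.1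
    · rw [H2_eq_of_mem_line h2 hpq hr hs hrs, line_eq_of_mem h2 hpq hr hs hrs]; exact he.2
  have hprop : ∀ p ∈ Ψ, ∀ q ∈ Ψ, p ≠ q → ∀ e, Cen p q e → ∀ c ∈ Ψ, c ≠ e → Cen e c e := by
    intro p hp q hq hpq e he c hc hce
    by_cases hcL : c ∈ line G p q
    · exact htrans p q e c hpq hce.symm he.1 hcL e he
    have heΨ : e ∈ Ψ := hflat p hp q hq hpq he.1
    obtain ⟨g, hg, hgM⟩ := hexg p hp q hq hpq
    obtain ⟨g', hg', hgM'⟩ := hexg e heΨ c hc hce.symm
    have hge : g • e = e := he.1 g hg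
    have hgcL : g • c ∈ line G e c := he.2 g hg hgM c hc hcL
    have hgce : g • c ≠ e := fun h => hce (MulAction.injective g (h.trans hge.symm))
    have hH : H2 G e (g • c) = H2 G e c := H2_eq_of_mem_line h2 hce.symm (left_mem_line e c) hgcL hgce.symm
    have hconj : g * g' * g⁻¹ ∈ H2 G e c := by
      rw [← hH, mem_H2]
      have hgi : g⁻¹ • e = e := by rw [inv_smul_eq_iff, hge]
      constructor
      · rw [mul_smul, mul_smul, hgi, (mem_H2.1 hg').1, hge]
      · rw [mul_smul, mul_smul, inv_smul_smul, (mem_H2.1 hg').2]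
    have hconjM : g * g' * g⁻¹ ∉ M := by
      intro h
      have hm := hcomm p q hpq _ (hMle p hp q hq h) g hg
      apply hgM'
      have : g' = g * g' * g⁻¹ := by
        have h5 : g⁻¹ * (g * g' * g⁻¹ * g) = g⁻¹ * (g * (g * g' * g⁻¹)) := by rw [hm]
        simpa [mul_assoc] using h5
      exact this ▸ h
    have hact : ∀ x ∈ Ψ, (g * g' * g⁻¹) • x = g' • x := fun x hx => by
      have := hx _ (hidx e heΨ c hc hce.symm g' hg' hgM' _ hconj hconjM)
      rwa [mul_smul, inv_smul_eq_iff] at this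
    obtain ⟨e', he'⟩ := hexC e heΨ c hc hce.symm
    obtain ⟨u, hu, hue⟩ : ∃ u ∈ line G p q, u ≠ e := by
      by_cases h : p = e
      · exact ⟨q, right_mem_line p q, fun hh => hpq (h.trans hh.symm)⟩
      · exact ⟨p, left_mem_line p q, h⟩
    have huΨ : u ∈ Ψ := hflat p hp q hq hpq hu
    have huL' : u ∉ line G e c := fun h => hcL (by
      rw [← line_eq_of_mem h2 hpq he.1 hu hue.symm, line_eq_of_mem h2 hce.symm (left_mem_line e c) h hue.symm]
      exact right_mem_line e c)
    have hg'u : g' • u ≠ u := fun h => huL' (hmove e heΨ c hc hce.symm g' hg' hgM' u huΨ h)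
    have hg'uΨ : g' • u ∈ Ψ := hpres e heΨ c hc hce.symm g' hg' u huΨ
    have hfix : g • g' • u = g' • u := by
      have h5 := hact u huΨ
      have hgi : g⁻¹ • u = u := by rw [inv_smul_eq_iff, hu g hg]
      rwa [mul_smul, mul_smul, hgi] at h5
    have hin : g' • u ∈ line G p q := hmove p hp q hq hpq g hg hgM _ hg'uΨ hfix
    have h6 := he'.2 g' hg' hgM' u huΨ huL'
    have hne' : e' ≠ u := fun h => huL' (h ▸ he'.1)
    have h7' := line_eq_of_mem h2 hne' h6 (right_mem_line e' u) hg'u
    rw [line_eq_of_mem h2 hpq hin hu hg'u] at h7'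
    have heL : e' ∈ line G p q := h7' ▸ left_mem_line e' u
    have : e' = e := by
      by_contra hee
      exact hcL (by
        rw [← line_eq_of_mem h2 hpq he.1 heL (Ne.symm hee),
          line_eq_of_mem h2 hce.symm (left_mem_line e c) he'.1 (Ne.symm hee)]
        exact right_mem_line e c)
    exact this ▸ he'
  -- two centres
  obtain ⟨P, hP⟩ := hexC a haΨ b hbΨ hab
  have hPΨ : P ∈ Ψ := hflat a haΨ b hbΨ hab hP.1
  obtain ⟨c, hc, hcP⟩ : ∃ c ∈ Ψ, c ≠ P := by
    by_cases h : a = P
    · exact ⟨b, hbΨ, fun hh => hab (h.trans hh.symm)⟩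
    · exact ⟨a, haΨ, h⟩
  obtain ⟨d, hd, hdL⟩ : ∃ d ∈ Ψ, d ∉ line G P c := by
    by_contra h
    push Not at h
    have := Set.ncard_le_ncard h (Set.toFinite _)
    rw [h7, hk3 P c hcP.symm] at this
    omega
  have hdc : d ≠ c := fun h => hdL (by rw [h]; exact right_mem_line P c)
  obtain ⟨Q, hQ⟩ := hexC c hc d hd hdc.symm
  have hPnot : P ∉ line G c d := fun h => hdL (by
    rw [line_eq_of_mem h2 hdc.symm h (left_mem_line c d) hcP.symm]; exact right_mem_line c d)
  have hQP : Q ≠ P := fun h => hPnot (h ▸ hQ.1)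
  have hQΨ : Q ∈ Ψ := hflat c hc d hd hdc.symm hQ.1
  have h1 := hprop a haΨ b hbΨ hab P hP Q hQΨ hQP
  have h3 := htrans Q P P Q hQP hQP.symm (right_mem_line Q P) (left_mem_line Q P) Q
    (hprop c hc d hd hdc.symm Q hQ P hPΨ hQP.symm)
  exact hQP (huniq P hPΨ Q hQΨ hQP.symm Q P h3 h1)

end CfsgLib.Perm.DerangeTwo
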