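import Mathlib
import Cfsg.Agent.Lib.Perm.DerangeTwo.Plane

/-!
Two-point stabilisers fixing three points with all other orbits of length two.
-/

set_option autoImplicit false

namespace CfsgLib.Perm.DerangeTwo

open MulAction

variable {G Ω : Type*} [Group G] [Finite G] [MulAction G Ω] [FaithfulSMul G Ω] [Fintype Ω]

theorem hyperplanes (h2 : IsMultiplyPretransitive G Ω 2) {a b : Ω} (hab : a ≠ b)
    (hk : (line G a b).ncard = 3) (hs : ∀ c, c ∉ line G a b → (orb (H2 G a b) c).ncard = 2) :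
    3 + 6 * (Nat.card (H2 G a b) - 1) ≤ Fintype.card Ω := by
  classical
  haveI := Fintype.ofFinite G
  set H := H2 G a b with hH
  have hsq0 : ∀ x ∈ H, x * x = 1 := by
    intro x hx
    apply eq_of_smul_eq_smul (α := Ω)
    intro d
    rw [one_smul, mul_smul]
    by_cases hd : d ∈ line G a b
    · rw [hd x hx, hd x hx]
    · exact sq_fix (hs d hd).le hx
  have hsq : ∀ p q : Ω, p ≠ q → ∀ x ∈ H2 G p q, x * x = 1 := by
    intro p q hpq x hx
    obtain ⟨e, -⟩ := H2_equiv h2 hab hpq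
    have h1 : e.symm ⟨x, hx⟩ * e.symm ⟨x, hx⟩ = 1 := Subtype.ext (hsq0 _ (e.symm ⟨x, hx⟩).2)
    rw [← map_mul, MulEquiv.map_eq_one_iff] at h1
    exact congrArg Subtype.val h1
  have hmove : ∀ c, c ∉ line G a b → ∀ g ∈ H, ∀ g' ∈ H, ((g * g') • c = c ↔ (g • c = c ↔ g' • c = c)) := by
    intro c hc g hg g' hg'
    have h2' := (hs c hc).le
    by_cases h : g • c = c <;> by_cases h' : g' • c = c
    · simp [mul_smul, h, h']
    · rw [mul_smul]
      simp only [h, h', iff_false, not_true, iff_false]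
      intro hh
      exact h' (MulAction.injective g (hh.trans h.symm))
    · rw [mul_smul, h']
      simp [h]
    · simp only [h, h', iff_self, iff_true]
      rw [mul_smul, ← orb_two_eq (hs c hc) hg hg' h h']
      exact sq_fix h2' hg
  have hcardM : ∀ c, c ∉ line G a b → 2 * Nat.card ↥(H ⊓ stabilizer G c) = Nat.card H := by
    intro c hc
    have := ncard_orb_mul H c
    rw [hs c hc] at this
    exact this
  set S : Finset (Subgroup G) := (line G a b)ᶜ.toFinset.image fun c => H ⊓ stabilizer G c with hS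
  have hSmem : ∀ M ∈ S, ∃ c, c ∉ line G a b ∧ M = H ⊓ stabilizer G c := by
    intro M hM
    obtain ⟨c, hc, rfl⟩ := Finset.mem_image.1 hM
    exact ⟨c, by simpa using hc, rfl⟩
  have hmemS : ∀ c, c ∉ line G a b → H ⊓ stabilizer G c ∈ S := fun c hc =>
    Finset.mem_image.2 ⟨c, by simpa using hc, rfl⟩
  have hfix_iff : ∀ M ∈ S, ∀ c, c ∉ line G a b → (c ∈ fixs Ω M ↔ H ⊓ stabilizer G c = M) := by
    intro M hM c hc
    obtain ⟨d, hd, rfl⟩ := hSmem M hM
    constructor
    · intro hcf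
      have hle : H ⊓ stabilizer G d ≤ H ⊓ stabilizer G c := fun g hg => ⟨hg.1, hcf g hg⟩
      have := hcardM c hc
      have := hcardM d hd
      exact (Subgroup.eq_of_le_of_card_ge hle (by omega)).symm
    · intro h g hg
      rw [← h] at hg
      exact hg.2
  -- each fibre is large
  have hfib : ∀ M ∈ S, 6 ≤ ((line G a b)ᶜ.toFinset.filter fun c => H ⊓ stabilizer G c = M).card := by
    intro M hM
    obtain ⟨d, hd, hMd⟩ := hSmem M hM
    have hMH : M ≤ H := hMd ▸ inf_le_left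
    have hΦ : line G a b ⊆ fixs Ω M := fun x hx g hg => hx g (hMH hg)
    have hdM : d ∈ fixs Ω M := (hfix_iff M hM d hd).2 hMd.symm
    have h1 := flat_step h2 hab (F := line G a b) (fun p hp q hq hpq => by
      rw [line_eq_of_mem h2 hab hp hq hpq]) (flat_fixs M) hΦ hdM hd
    rw [hk] at h1
    have h3 := flat_dvd h2 hab (flat_fixs (Ω := Ω) M) hdM
    rw [hk] at h3
    have h7 : (fixs Ω M).ncard ≠ 7 := fun h => no_seven h2 hab hk hsq M hMH
      (by rw [hMd]; exact (hcardM d hd).symm) h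
    have heq : ((line G a b)ᶜ.toFinset.filter fun c => H ⊓ stabilizer G c = M) =
        (fixs Ω M).toFinset \ (line G a b).toFinset := by
      ext c
      simp only [Finset.mem_filter, Set.mem_toFinset, Set.mem_compl_iff, Finset.mem_sdiff]
      exact ⟨fun h => ⟨(hfix_iff M hM c h.1).2 h.2, h.1⟩, fun h => ⟨h.2, (hfix_iff M hM c h.2).1 h.1⟩⟩
    rw [heq, Finset.card_sdiff_of_subset (Set.toFinset_subset_toFinset.2 hΦ), ← Set.ncard_eq_toFinset_card',
      ← Set.ncard_eq_toFinset_card', hk]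
    omega
  have hn : 3 + 6 * S.card ≤ Fintype.card Ω := by
    have h1 := Finset.card_eq_sum_card_fiberwise (s := (line G a b)ᶜ.toFinset) (t := S)
      (f := fun c => H ⊓ stabilizer G c) (fun x hx => Finset.mem_image_of_mem _ hx)
    have h3 := Finset.card_nsmul_le_sum S _ 6 hfib
    rw [← h1, smul_eq_mul, ← Set.ncard_eq_toFinset_card', Set.ncard_compl, hk, Nat.card_eq_fintype_card] at h3
    have : 3 ≤ Fintype.card Ω := by
      rw [← hk, ← Nat.card_eq_fintype_card, ← Set.ncard_univ]; exact Set.ncard_le_ncard (Set.subset_univ _)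
    omega
  -- closure
  have hclos : ∀ M ∈ S, ∀ N ∈ S, M ≠ N → ∃ P ∈ S, ∀ g ∈ H, (g ∈ P ↔ (g ∈ M ↔ g ∈ N)) := by
    intro M hM N hN hMN
    obtain ⟨c, hc, hMc⟩ := hSmem M hM
    obtain ⟨d, hd, hNd⟩ := hSmem N hN
    have hcM : c ∈ fixs Ω M := (hfix_iff M hM c hc).2 hMc.symm
    have hdN : d ∈ fixs Ω N := (hfix_iff N hN d hd).2 hNd.symm
    have hdM : d ∉ fixs Ω M := fun h => hMN (((hfix_iff M hM d hd).1 h).symm.trans hNd.symm)
    have hcN : c ∉ fixs Ω N := fun h => hMN (hMc.trans ((hfix_iff N hN c hc).1 h))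
    set F := fixs Ω (M ⊓ N) with hF
    have hMF : fixs Ω M ⊆ F := fun x hx g hg => hx g hg.1
    have hNF : fixs Ω N ⊆ F := fun x hx g hg => hx g hg.2
    have h1 := flat_step h2 hab (flat_fixs M) (flat_fixs (M ⊓ N)) hMF (hNF hdN) hdM
    have h3 := flat_step h2 hab (flat_fixs N) (flat_fixs (M ⊓ N)) hNF (hMF hcM) hcN
    rw [hk, ← hF] at h1 h3
    obtain ⟨z, hz, hzn⟩ : ∃ z ∈ F, z ∉ fixs Ω M ∪ fixs Ω N := by
      by_contra h
      push Not at h
      have := (Set.ncard_le_ncard h (Set.toFinite _)).trans (Set.ncard_union_le _ _)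
      omega
    rw [Set.mem_union, not_or] at hzn
    have hMH : M ≤ H := hMc ▸ inf_le_left
    have hNH : N ≤ H := hNd ▸ inf_le_left
    have hzl : z ∉ line G a b := fun h => hzn.1 fun g hg => h g (hMH hg)
    obtain ⟨x, hxM, hxz⟩ : ∃ x ∈ M, x • z ≠ z := by
      by_contra h; push Not at h; exact hzn.1 h
    obtain ⟨y, hyN, hyz⟩ : ∃ y ∈ N, y • z ≠ z := by
      by_contra h; push Not at h; exact hzn.2 h
    refine ⟨H ⊓ stabilizer G z, hmemS z hzl, fun g hg => ?_⟩
    have hJ : ∀ t, t ∈ M → t ∈ N → t • z = z := fun t h1 h2 => hz t ⟨h1, h2⟩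
    have hxN : x ∉ N := fun h => hxz (hJ x hxM h)
    have hyM : y ∉ M := fun h => hyz (hJ y h hyN)
    have kM : ∀ u ∈ H, ∀ v ∈ H, (u * v ∈ M ↔ (u ∈ M ↔ v ∈ M)) := fun u hu v hv => by
      subst hMc
      simp only [Subgroup.mem_inf, mem_stabilizer_iff, hu, hv, H.mul_mem hu hv, true_and]
      exact hmove c hc u hu v hv
    have kN : ∀ u ∈ H, ∀ v ∈ H, (u * v ∈ N ↔ (u ∈ N ↔ v ∈ N)) := fun u hu v hv => by
      subst hNd
      simp only [Subgroup.mem_inf, mem_stabilizer_iff, hu, hv, H.mul_mem hu hv, true_and]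
      exact hmove d hd u hu v hv
    have hmemP : g ∈ H ⊓ stabilizer G z ↔ g • z = z := ⟨fun h => h.2, fun h => ⟨hg, h⟩⟩
    rw [hmemP]
    by_cases hgM : g ∈ M <;> by_cases hgN : g ∈ N
    · simp [hgM, hgN, hJ g hgM hgN]
    · simp only [hgM, hgN, iff_false, not_true]
      intro hgz
      have h4 := hJ (g * x) (M.mul_mem hgM hxM) ((kN g hg x (hMH hxM)).2 (by simp [hgN, hxN]))
      have := (hmove z hzl g hg x (hMH hxM)).1 h4
      exact hxz (this.1 hgz)
    · simp only [hgM, hgN, false_iff, not_true, iff_false]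
      intro hgz
      have h4 := hJ (g * y) ((kM g hg y (hNH hyN)).2 (by simp [hgM, hyM])) (N.mul_mem hgN hyN)
      exact hyz (((hmove z hzl g hg y (hNH hyN)).1 h4).1 hgz)
    · simp only [hgM, hgN, iff_self, iff_true]
      have hxy : x * y ∈ H := H.mul_mem (hMH hxM) (hNH hyN)
      have h4 := hJ (g * (x * y)) ((kM g hg _ hxy).2 (by simp [hgM, kM x (hMH hxM) y (hNH hyN), hxM, hyM]))
        ((kN g hg _ hxy).2 (by simp [hgN, kN x (hMH hxM) y (hNH hyN), hxN, hyN]))
      have h5 : (x * y) • z = z := (hmove z hzl x (hMH hxM) y (hNH hyN)).2 (by simp [hxz, hyz])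
      exact ((hmove z hzl g hg _ hxy).1 h4).2 h5
  -- counting
  have hsep : ∀ x ∈ H, x ≠ 1 → ∃ M ∈ S, x ∉ M := by
    intro x hx hx1
    by_contra h
    push Not at h
    refine hx1 (eq_of_smul_eq_smul (α := Ω) fun c => ?_)
    rw [one_smul]
    by_cases hc : c ∈ line G a b
    · exact hc x hx
    · exact (h _ (hmemS c hc)).2
  have hext : ∀ P ∈ S, ∀ P' ∈ S, (∀ g ∈ H, g ∈ P ↔ g ∈ P') → P = P' := by
    intro P hP P' hP' h
    obtain ⟨_, -, rfl⟩ := hSmem P hP
    obtain ⟨_, -, rfl⟩ := hSmem P' hP'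
    ext g
    exact ⟨fun hg => (h g hg.1).1 hg, fun hg => (h g hg.1).2 hg⟩
  have hhalf : ∀ x ∈ H, x ≠ 1 → 2 * (S.filter fun M => x ∉ M).card = S.card + 1 := by
    intro x hx hx1
    obtain ⟨M0, hM0, hxM0⟩ := hsep x hx hx1
    have hb : (S.filter fun M => x ∈ M).card = ((S.filter fun M => x ∉ M).erase M0).card := by
      have hex : ∀ M ∈ S, M ≠ M0 → ∃ P ∈ S, ∀ g ∈ H, (g ∈ P ↔ (g ∈ M ↔ g ∈ M0)) :=
        fun M hM hne => hclos M hM M0 hM0 hne
      choose T hTS hT using hex
      have hnot : ∀ M ∈ S, ∀ (hne : M ≠ M0) (hM : M ∈ S), T M hM hne ≠ M0 := by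
        intro M _ hne hM he
        obtain ⟨c, hc, hMc⟩ := hSmem M hM
        have hall : ∀ g ∈ H, g ∈ M := fun g hg => by
          have := hT M hM hne g hg
          rw [he] at this
          tauto
        obtain ⟨g, hg, hgc⟩ : ∃ g ∈ H, g • c ≠ c := by
          by_contra h; push Not at h; exact hc h
        exact hgc (hMc ▸ hall g hg).2
      refine Finset.card_bij' (fun M hM => T M (Finset.mem_filter.1 hM).1
          (fun h => hxM0 (h ▸ (Finset.mem_filter.1 hM).2)))
        (fun M hM => T M (Finset.mem_filter.1 (Finset.mem_erase.1 hM).2).1 (Finset.mem_erase.1 hM).1)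
        ?_ ?_ ?_ ?_
      · intro M hM
        obtain ⟨hMS, hxM⟩ := Finset.mem_filter.1 hM
        simp only [Finset.mem_erase, Finset.mem_filter]
        exact ⟨hnot M hMS _ _, hTS _ _ _, fun h => hxM0 (((hT _ _ _ x hx).1 h).1 hxM)⟩
      · intro M hM
        obtain ⟨hne, hM'⟩ := Finset.mem_erase.1 hM
        obtain ⟨hMS, hxM⟩ := Finset.mem_filter.1 hM'
        simp only [Finset.mem_filter]
        exact ⟨hTS _ _ _, (hT _ _ _ x hx).2 (by simp [hxM, hxM0])⟩
      · intro M hM
        refine hext _ (hTS _ _ _) _ (Finset.mem_filter.1 hM).1 fun g hg => ?_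
        rw [hT _ _ _ g hg, hT _ _ _ g hg]
        tauto
      · intro M hM
        refine hext _ (hTS _ _ _) _ (Finset.mem_filter.1 (Finset.mem_erase.1 hM).2).1 fun g hg => ?_
        rw [hT _ _ _ g hg, hT _ _ _ g hg]
        tauto
    have hmem : M0 ∈ S.filter fun M => x ∉ M := Finset.mem_filter.2 ⟨hM0, hxM0⟩
    rw [Finset.card_erase_of_mem hmem] at hb
    have := Finset.card_filter_add_card_filter_not (s := S) (fun M => x ∈ M)
    have : 0 < (S.filter fun M => x ∉ M).card := Finset.card_pos.2 ⟨M0, hmem⟩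
    omega
  set E : Finset G := (H : Set G).toFinset.erase 1 with hE
  have hEcard : E.card = Nat.card H - 1 := by
    rw [hE, Finset.card_erase_of_mem (by simp [H.one_mem]), ← Set.ncard_eq_toFinset_card',
      ← Nat.card_coe_set_eq]
    rfl
  have hcol : ∀ M ∈ S, 2 * (E.filter fun x => x ∉ M).card = Nat.card H := by
    intro M hM
    obtain ⟨c, hc, rfl⟩ := hSmem M hM
    have : (E.filter fun x => x ∉ H ⊓ stabilizer G c) =
        (H : Set G).toFinset \ ((H ⊓ stabilizer G c : Subgroup G) : Set G).toFinset := by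
      ext g
      simp only [hE, Finset.mem_filter, Finset.mem_erase, Set.mem_toFinset, Finset.mem_sdiff, SetLike.mem_coe]
      exact ⟨fun h => ⟨h.1.2, h.2⟩, fun h => ⟨⟨fun e => h.2 (e ▸ Subgroup.one_mem _), h.1⟩, h.2⟩⟩
    rw [this, Finset.card_sdiff_of_subset (Set.toFinset_subset_toFinset.2 fun g hg => hg.1),
      ← Set.ncard_eq_toFinset_card', ← Set.ncard_eq_toFinset_card', ← Nat.card_coe_set_eq, ← Nat.card_coe_set_eq]
    have := hcardM c hc
    show 2 * (Nat.card H - Nat.card ↥(H ⊓ stabilizer G c)) = Nat.card H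
    omega
  have hdouble : 2 * ∑ M ∈ S, (E.filter fun x => x ∉ M).card = 2 * ∑ x ∈ E, (S.filter fun M => x ∉ M).card := by
    simp_rw [Finset.card_filter]
    rw [Finset.sum_comm]
  rw [Finset.mul_sum, Finset.mul_sum, Finset.sum_congr rfl hcol, Finset.sum_const, smul_eq_mul,
    Finset.sum_congr rfl fun x hx => hhalf x (Set.mem_toFinset.1 (Finset.mem_erase.1 hx).2)
      (Finset.mem_erase.1 hx).1, Finset.sum_const, smul_eq_mul, hEcard] at hdouble
  have hh : 1 ≤ Nat.card H := Nat.card_pos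
  obtain ⟨m, hm⟩ := Nat.exists_eq_add_of_le hh
  rw [hm, show 1 + m - 1 = m by omega] at hdouble
  have : S.card = m := by
    have : S.card * 1 + S.card * m = m * S.card + m * 1 := by rw [← mul_add, ← mul_add]; exact hdouble
    rw [mul_one, mul_one, mul_comm m] at this
    omega
  omega

end CfsgLib.Perm.DerangeTwo
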