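import Mathlib
import Cfsg.Agent.Lib.Perm.DerangeTwo.Orbits

/-!
Two-point stabilisers fixing exactly two points.
-/

set_option autoImplicit false

namespace CfsgLib.Perm.DerangeTwo

open MulAction

variable {G Ω : Type*} [Group G] [Finite G] [MulAction G Ω] [FaithfulSMul G Ω] [Fintype Ω]

/-- With too many orbits, the two-point stabiliser has orbits of length two only. -/
theorem small_short (h2 : IsMultiplyPretransitive G Ω 2) (hn : 6 ≤ Fintype.card Ω) {a b : Ω}
    (hk : (line G a b).ncard = 2) (hab : a ≠ b)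
    (hV : Fintype.card Ω * Nat.card (H2 G a b) < 2 * S1 Ω (H2 G a b)) :
    ∀ c, c ∉ line G a b → (orb (H2 G a b) c).ncard = 2 := by
  classical
  set H := H2 G a b with hH
  have hfx : fixs Ω H = line G a b := rfl
  intro c hc
  have hc2 := two_le_orb (H := H) hc
  by_contra hne
  have hc3 : (orb H c).ncard = 3 := by
    have := long_orbits H hV {c} (by simpa [hfx] using hc) (by simp)
    rw [Finset.sum_singleton, hfx, hk] at this
    omega
  have hother : ∀ d, d ∉ line G a b → d ∉ orb H c → (orb H d).ncard = 2 := by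
    intro d hd hdo
    have hd2 := two_le_orb (H := H) hd
    have hcd : c ≠ d := fun e => hdo (e ▸ mem_orb_self H c)
    have hnd : c ∉ orb H d := fun e => hdo (by rw [orb_eq_of_mem e]; exact mem_orb_self H d)
    have := long_orbits H hV {c, d} (by
      intro x hx
      rw [Finset.mem_insert, Finset.mem_singleton] at hx
      rcases hx with rfl | rfl
      · exact hc
      · exact hd) (by
      intro x hx y hy hxy
      rw [Finset.mem_insert, Finset.mem_singleton] at hx hy
      rcases hx with rfl | rfl <;> rcases hy with rfl | rfl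
      · exact absurd rfl hxy
      · exact hdo
      · exact hnd
      · exact absurd rfl hxy)
    rw [Finset.sum_pair hcd, hfx, hk, hc3] at this
    omega
  by_cases hall : ∀ x ∈ H, x * x = 1
  · have hp : IsPGroup 2 H := fun x => ⟨1, by rw [pow_one, pow_two]; exact Subtype.ext (hall x x.2)⟩
    haveI := Fact.mk Nat.prime_two
    obtain ⟨j, hj⟩ := hp.card_orbit c
    rw [Nat.card_coe_set_eq, ← orb_eq_orbit, hc3] at hj
    rcases j with _ | j
    · simp at hj
    · rw [pow_succ] at hj; omega
  push Not at hall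
  obtain ⟨x, hx, hxne⟩ := hall
  set σ : Equiv.Perm Ω := toPermHom G Ω (x * x) with hσ
  have hσ1 : σ ≠ 1 := fun h => hxne (MulAction.toPerm_injective (α := G) (β := Ω)
    (h.trans (by ext; simp)))
  have hsupp : σ.support ⊆ (orb H c).toFinset := by
    intro d hd
    rw [Equiv.Perm.mem_support] at hd
    rw [Set.mem_toFinset]
    by_contra hdo
    apply hd
    show (x * x) • d = d
    rw [mul_smul]
    by_cases hdl : d ∈ line G a b
    · rw [hdl x hx, hdl x hx]
    · exact sq_fix (hother d hdl hdo).le hx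
  have hcard : σ.support.card ≤ 3 := by
    rw [← hc3, Set.ncard_eq_toFinset_card']; exact Finset.card_le_card hsupp
  have hprim : IsPreprimitive (toPermHom G Ω).range Ω := by
    haveI : IsPreprimitive G Ω := isPreprimitive_of_is_two_pretransitive h2
    exact IsPreprimitive.of_surjective (φ := (toPermHom G Ω).rangeRestrict)
      (f := (⟨id, fun _ _ => rfl⟩ : Ω →ₑ[(toPermHom G Ω).rangeRestrict] Ω)) Function.surjective_id
  have hA : alternatingGroup Ω ≤ (toPermHom G Ω).range := by
    have h2' := Equiv.Perm.two_le_card_support_of_ne_one hσ1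
    have hmem : σ ∈ (toPermHom G Ω).range := ⟨_, rfl⟩
    rcases (show σ.support.card = 2 ∨ σ.support.card = 3 by omega) with h | h
    · rw [Equiv.Perm.subgroup_eq_top_of_isPreprimitive_of_isSwap_mem hprim σ
        (Equiv.Perm.card_support_eq_two.1 h) hmem]
      exact le_top
    · exact Equiv.Perm.alternatingGroup_le_of_isPreprimitive_of_isThreeCycle_mem hprim
        (card_support_eq_three_iff.1 h) hmem
  -- transitivity
  have hcab : c ≠ a ∧ c ≠ b :=
    ⟨fun e => hc (by rw [e]; exact left_mem_line a b), fun e => hc (by rw [e]; exact right_mem_line a b)⟩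
  have huniv : ∀ d, d ≠ a → d ≠ b → d ∈ orb H c := by
    intro d hda hdb
    by_cases hdc : d = c
    · exact hdc ▸ mem_orb_self H c
    obtain ⟨e, he⟩ : ∃ e, e ∉ ({a, b, c, d} : Finset Ω) := by
      by_contra h
      push Not at h
      have := Finset.card_le_card (s := (Finset.univ : Finset Ω)) (fun x _ => h x)
      have := (Finset.card_le_four (a := a) (b := b) (c := c) (d := d))
      rw [Finset.card_univ] at *
      omega
    simp only [Finset.mem_insert, Finset.mem_singleton, not_or] at he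
    obtain ⟨hea, heb, hec, hed⟩ := he
    have hmem : Equiv.swap c e * Equiv.swap c d ∈ alternatingGroup Ω := by
      rw [Equiv.Perm.mem_alternatingGroup, map_mul, Equiv.Perm.sign_swap (Ne.symm hec),
        Equiv.Perm.sign_swap (Ne.symm hdc)]
      rfl
    obtain ⟨g, hg⟩ := hA hmem
    have happ : ∀ y, g • y = Equiv.swap c e (Equiv.swap c d y) := fun y => Equiv.ext_iff.1 hg y
    refine ⟨g, mem_H2.2 ⟨?_, ?_⟩, ?_⟩
    · rw [happ, Equiv.swap_apply_of_ne_of_ne hcab.1.symm hda.symm,
        Equiv.swap_apply_of_ne_of_ne hcab.1.symm (Ne.symm hea)]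
    · rw [happ, Equiv.swap_apply_of_ne_of_ne hcab.2.symm hdb.symm,
        Equiv.swap_apply_of_ne_of_ne hcab.2.symm (Ne.symm heb)]
    · show g • c = d
      rw [happ, Equiv.swap_apply_left, Equiv.swap_apply_of_ne_of_ne hdc (Ne.symm hed)]
  have hsub : ((Finset.univ : Finset Ω).erase a).erase b ⊆ (orb H c).toFinset := fun d hd => by
    simp only [Finset.mem_erase, Finset.mem_univ, and_true] at hd
    exact Set.mem_toFinset.2 (huniv d hd.2 hd.1)
  have := Finset.card_le_card hsub
  rw [← Set.ncard_eq_toFinset_card', hc3, Finset.card_erase_of_mem (by simp [hab.symm]),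
    Finset.card_erase_of_mem (Finset.mem_univ _), Finset.card_univ] at this
  omega

/-- Orbits of length two only: the two-point stabiliser has order two. -/
theorem small_card (h2 : IsMultiplyPretransitive G Ω 2) {a b : Ω} (hab : a ≠ b)
    (hk : (line G a b).ncard = 2) (hs : ∀ c, c ∉ line G a b → (orb (H2 G a b) c).ncard = 2) :
    Nat.card (H2 G a b) ≤ 2 := by
  classical
  haveI := Fintype.ofFinite G
  haveI : IsPretransitive G Ω := isPretransitive_of_is_two_pretransitive
  haveI := Fact.mk Nat.prime_two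
  set H := H2 G a b with hH
  have hline : ∀ x, x ∈ line G a b ↔ x = a ∨ x = b := by
    obtain ⟨u, v, huv, he⟩ := Set.ncard_eq_two.1 hk
    have ha := he ▸ left_mem_line (G := G) a b
    have hb := he ▸ right_mem_line (G := G) a b
    intro x
    simp only [he, Set.mem_insert_iff, Set.mem_singleton_iff] at ha hb ⊢
    grind
  have hsq : ∀ x ∈ H, x * x = 1 := by
    intro x hx
    apply eq_of_smul_eq_smul (α := Ω)
    intro d
    rw [one_smul, mul_smul]
    by_cases hd : d ∈ line G a b
    · rw [hd x hx, hd x hx]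
    · exact sq_fix (hs d hd).le hx
  have hcomm : ∀ x ∈ H, ∀ y ∈ H, x * y = y * x := fun x hx y hy => by
    have h1 := hsq _ (H.mul_mem hx hy)
    have h2 := hsq x hx
    have h3 := hsq y hy
    calc x * y = x * (x * y * (x * y)) * y := by rw [h1, mul_one]
      _ = (x * x) * (y * x) * (y * y) := by group
      _ = y * x := by rw [h2, h3, one_mul, mul_one]
  have hp : IsPGroup 2 H := fun x => ⟨1, by rw [pow_one, pow_two]; exact Subtype.ext (hsq x x.2)⟩
  -- the degree is even
  have heven : Fintype.card Ω % 2 = 0 := by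
    have := hp.card_modEq_card_fixedPoints Ω
    have hfp : fixedPoints H Ω = line G a b := by
      ext x; exact ⟨fun h g hg => h ⟨g, hg⟩, fun h g => h g g.2⟩
    rw [hfp, Nat.card_coe_set_eq, hk, Nat.card_eq_fintype_card] at this
    exact this
  set X := stabilizer G a with hX
  set P : Subgroup X := H.subgroupOf X with hP
  have hHX : H ≤ X := inf_le_left
  have hPp : IsPGroup 2 P := hp.of_equiv (Subgroup.subgroupOfEquivOfLe hHX).symm
  have hPcard : Nat.card P = Nat.card H := Nat.card_congr (Subgroup.subgroupOfEquivOfLe hHX).toEquiv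
  have hXcard : Nat.card X = (Fintype.card Ω - 1) * Nat.card H := by
    have hG := (card_formulas h2 hab).2
    have h1 : Nat.card X * Fintype.card Ω = Nat.card G := by
      rw [← Nat.card_eq_fintype_card, ← index_stabilizer_of_transitive G a, Subgroup.card_mul_index]
    have hn : 1 ≤ Fintype.card Ω := Fintype.card_pos_iff.2 ⟨a⟩
    have h3 : (Fintype.card G : ℚ) = ((Fintype.card Ω * ((Fintype.card Ω - 1) * Nat.card H) : ℕ) : ℚ) := by
      rw [hG]; push_cast [Nat.cast_sub hn]; ring
    have h4 : Fintype.card G = Fintype.card Ω * ((Fintype.card Ω - 1) * Nat.card H) := by exact_mod_cast h3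
    rw [Nat.card_eq_fintype_card (α := G), h4, mul_comm] at h1
    exact Nat.eq_of_mul_eq_mul_left (by omega) h1
  have hidx : P.index = Fintype.card Ω - 1 := by
    have := P.card_mul_index
    rw [hPcard, hXcard, mul_comm] at this
    exact Nat.eq_of_mul_eq_mul_right Nat.card_pos this
  have hnd : ¬ 2 ∣ P.index := by
    rw [hidx]
    have : 1 ≤ Fintype.card Ω := Fintype.card_pos_iff.2 ⟨a⟩
    omega
  let S : Sylow 2 X := hPp.toSylow hnd
  have hnorm : Subgroup.normalizer ((S : Subgroup X) : Set X) ≤ Subgroup.centralizer ((S : Subgroup X) : Set X) := by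
    intro g hg
    have hmem : g ∈ P := by
      refine mem_H2.2 ⟨g.2, ?_⟩
      have hfix : (g : G) • b ∈ line G a b := by
        intro t ht
        have ht' : (⟨t, hHX ht⟩ : X) ∈ P := ht
        have := (Subgroup.mem_normalizer_iff''.1 hg ⟨t, hHX ht⟩).1 ht'
        have := (mem_H2.1 (show (g : G)⁻¹ * t * g ∈ H from this)).2
        rwa [mul_smul, mul_smul, inv_smul_eq_iff] at this
      rcases (hline _).1 hfix with h | h
      · exact absurd (MulAction.injective (g : G) (h.trans g.2.symm)) hab.symm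
      · exact h
    rw [Subgroup.mem_centralizer_iff]
    exact fun y hy => Subtype.ext (hcomm _ hy _ hmem)
  have hcompl := MonoidHom.ker_transferSylow_isComplement' S hnorm
  set K₀ := (MonoidHom.transferSylow S hnorm).ker with hK₀
  have hKn : K₀.Normal := MonoidHom.normal_ker _
  clear_value K₀
  set K : Subgroup G := K₀.map X.subtype with hK
  have hKX : ∀ k ∈ K, k • a = a := by rintro _ ⟨k, -, rfl⟩; exact k.2
  have hKcard : Nat.card K = Fintype.card Ω - 1 := by
    have e : Nat.card K = Nat.card K₀ :=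
      Nat.card_congr (K₀.equivMapOfInjective X.subtype Subtype.coe_injective).toEquiv.symm
    rw [e, ← hidx, ← hcompl.index_eq_card]
    rfl
  have hKsemi : ∀ k ∈ K, k • b = b → k = 1 := by
    rintro _ ⟨k, hk, rfl⟩ hkb
    have : k ∈ K₀ ⊓ (S : Subgroup X) := ⟨hk, mem_H2.2 ⟨k.2, hkb⟩⟩
    rw [hcompl.disjoint.eq_bot, Subgroup.mem_bot] at this
    rw [this]; rfl
  have hKtrans : ∀ c, c ≠ a → ∃ k ∈ K, k • b = c := by
    intro c hc
    obtain ⟨g, hga, hgb⟩ := exists_pair h2 hab (Ne.symm hc)
    obtain ⟨⟨⟨k, hk⟩, ⟨p, hp'⟩⟩, hkp⟩ := hcompl.2 ⟨g, hga⟩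
    refine ⟨k, ⟨k, hk, rfl⟩, ?_⟩
    have hpb : (p : G) • b = b := (mem_H2.1 hp').2
    have := congrArg (fun z : X => (z : G) • b) hkp
    simp only [Subgroup.coe_mul, mul_smul, hpb] at this
    rw [this, hgb]
  have hconjK : ∀ x ∈ H, ∀ k ∈ K, x * k * x⁻¹ ∈ K := by
    rintro x hx _ ⟨k, hk, rfl⟩
    exact ⟨⟨x, hHX hx⟩ * k * ⟨x, hHX hx⟩⁻¹, hKn.conj_mem k hk _, rfl⟩
  have hfixiff : ∀ x ∈ H, ∀ k ∈ K, (x • (k • b) = k • b ↔ x * k = k * x) := by
    intro x hx k hk
    constructor
    · intro h
      have hx' := (mem_H2.1 (H.inv_mem hx)).2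
      have h1 : (k⁻¹ * (x * k * x⁻¹)) • b = b := by
        rw [mul_smul, inv_smul_eq_iff, mul_smul, mul_smul, hx', h]
      have := hKsemi _ (K.mul_mem (K.inv_mem hk) (hconjK x hx k hk)) h1
      rw [inv_mul_eq_one] at this
      conv_rhs => rw [this]
      group
    · intro h
      rw [← mul_smul, h, mul_smul, (mem_H2.1 hx).2]
  -- suppose the order exceeds two
  by_contra hbig
  push Not at hbig
  have hmove : ∀ c, c ∉ line G a b → ∀ g ∈ H, ∀ g' ∈ H, g • c ≠ c → g' • c ≠ c → (g * g') • c = c := by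
    intro c hc g hg g' hg' hgc hgc'
    rw [mul_smul, ← orb_two_eq (hs c hc) hg hg' hgc hgc']
    exact sq_fix (hs c hc).le hg
  obtain ⟨c, hc⟩ : ∃ c, c ∉ line G a b := by
    by_contra h
    push Not at h
    have hbot : H = ⊥ := by
      rw [eq_bot_iff]
      intro g hg
      rw [Subgroup.mem_bot]
      apply eq_of_smul_eq_smul (α := Ω)
      intro x; rw [one_smul]; exact h x g hg
    rw [hbot, Subgroup.card_bot] at hbig; omega
  obtain ⟨x0, hx0, hx0c⟩ : ∃ x ∈ H, x • c ≠ c := by
    by_contra h; push Not at h; exact hc h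
  -- a point with another stabiliser
  obtain ⟨y, hy, hyc, hy1⟩ : ∃ y ∈ H, y • c = c ∧ y ≠ 1 := by
    have h := ncard_orb_mul H c
    rw [hs c hc] at h
    have : 1 < Nat.card ↥(H ⊓ stabilizer G c) := by omega
    haveI := Finite.one_lt_card_iff_nontrivial.1 this
    obtain ⟨⟨y, hy, hyc⟩, hne⟩ := exists_ne (1 : ↥(H ⊓ stabilizer G c))
    exact ⟨y, hy, hyc, fun e => hne (Subtype.ext e)⟩
  obtain ⟨d, hyd⟩ : ∃ d, y • d ≠ d := by
    by_contra h
    push Not at h
    exact hy1 (eq_of_smul_eq_smul (α := Ω) fun z => by rw [h, one_smul])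
  have hd : d ∉ line G a b := fun e => hyd (e y hy)
  -- x fixes d and moves c
  obtain ⟨x, hx, hxc, hxd⟩ : ∃ x ∈ H, x • c ≠ c ∧ x • d = d := by
    by_cases h : x0 • d = d
    · exact ⟨x0, hx0, hx0c, h⟩
    · refine ⟨x0 * y, H.mul_mem hx0 hy, by rw [mul_smul, hyc]; exact hx0c, ?_⟩
      exact hmove d hd x0 hx0 y hy h hyd
  obtain ⟨kc, hkc, rfl⟩ := hKtrans c fun e => hc (by rw [e]; exact left_mem_line a b)
  obtain ⟨kd, hkd, rfl⟩ := hKtrans d fun e => hd (by rw [e]; exact left_mem_line a b)
  set J : Subgroup G := H ⊓ stabilizer G (kc • b) ⊓ stabilizer G (kd • b) with hJ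
  set L : Subgroup G := K ⊓ Subgroup.centralizer (J : Set G) with hL
  let C : G → Subgroup G := fun z => L ⊓ Subgroup.centralizer ({z} : Set G)
  have hCmem : ∀ z k, k ∈ C z ↔ k ∈ L ∧ z * k = k * z := fun z k => by
    simp [C, Subgroup.mem_centralizer_iff]
  have hcL : ∀ k ∈ K, (∀ g ∈ J, g • (k • b) = k • b) → k ∈ L := fun k hk h =>
    ⟨hk, fun g hg => (hfixiff g hg.1.1 k hk).1 (h g hg)⟩
  have hkcL : kc ∈ L := hcL kc hkc fun g hg => hg.1.2
  have hkdL : kd ∈ L := hcL kd hkd fun g hg => hg.2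
  have hdec : ∀ g ∈ H, g ∈ J ∨ g * x ∈ J ∨ g * y ∈ J ∨ g * (x * y) ∈ J := by
    intro g hg
    by_cases h1 : g • (kc • b) = kc • b <;> by_cases h3 : g • (kd • b) = kd • b
    · exact Or.inl ⟨⟨hg, h1⟩, h3⟩
    · refine Or.inr (Or.inr (Or.inl ⟨⟨H.mul_mem hg hy, ?_⟩, ?_⟩))
      · show (g * y) • (kc • b) = kc • b
        rw [mul_smul, hyc, h1]
      · exact hmove _ hd g hg y hy h3 hyd
    · refine Or.inr (Or.inl ⟨⟨H.mul_mem hg hx, ?_⟩, ?_⟩)
      · exact hmove _ hc g hg x hx h1 hxc
      · show (g * x) • (kd • b) = kd • b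
        rw [mul_smul, hxd, h3]
    · refine Or.inr (Or.inr (Or.inr ⟨⟨H.mul_mem hg (H.mul_mem hx hy), ?_⟩, ?_⟩))
      · show (g * (x * y)) • (kc • b) = kc • b
        rw [mul_smul, mul_smul, hyc]
        have := hmove _ hc g hg x hx h1 hxc
        rwa [mul_smul] at this
      · show (g * (x * y)) • (kd • b) = kd • b
        rw [hcomm x hx y hy, ← mul_assoc, mul_smul, hxd]
        exact hmove _ hd g hg y hy h3 hyd
  have htriv : ∀ k ∈ L, x * k = k * x → y * k = k * y → k = 1 := by
    intro k hk hxk hyk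
    have hxf := (hfixiff x hx k hk.1).2 hxk
    have hyf := (hfixiff y hy k hk.1).2 hyk
    have hJf : ∀ g ∈ J, g • (k • b) = k • b := fun g hg => (hfixiff g hg.1.1 k hk.1).2 (hk.2 g hg)
    have hl : k • b ∈ line G a b := by
      intro g hg
      rcases hdec g hg with h | h | h | h
      · exact hJf g h
      · have := hJf _ h; rwa [mul_smul, hxf] at this
      · have := hJf _ h; rwa [mul_smul, hyf] at this
      · have := hJf _ h; rwa [mul_smul, mul_smul, hyf, hxf] at this
    rcases (hline _).1 hl with h | h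
    · exact absurd (MulAction.injective k (h.trans (hKX k hk.1).symm)) hab.symm
    · exact hKsemi k hk.1 h
  have hpair : ∀ u v : G, (∀ k ∈ L, u * k = k * u → v * k = k * v → k = 1) →
      Nat.card (C u) * Nat.card (C v) ≤ Nat.card L := by
    intro u v huv
    rw [← Nat.card_prod]
    refine Nat.card_le_card_of_injective
      (fun p : C u × C v => (⟨(p.1 : G) * p.2, L.mul_mem p.1.2.1 p.2.2.1⟩ : L)) ?_
    rintro ⟨p, q⟩ ⟨p', q'⟩ he
    have he' : (p : G) * q = p' * q' := congrArg Subtype.val he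
    have h1 : (p' : G)⁻¹ * p = q' * (q : G)⁻¹ := by
      rw [eq_mul_inv_iff_mul_eq, mul_assoc, he', inv_mul_cancel_left]
    have hu : (p' : G)⁻¹ * p ∈ C u := (C u).mul_mem ((C u).inv_mem p'.2) p.2
    have hv : (p' : G)⁻¹ * p ∈ C v := h1 ▸ (C v).mul_mem q'.2 ((C v).inv_mem q.2)
    have hone := huv _ hu.1 ((hCmem _ _).1 hu).2 ((hCmem _ _).1 hv).2
    have hpp : p' = p := Subtype.ext (inv_mul_eq_one.1 hone)
    subst hpp
    exact Prod.ext rfl (Subtype.ext (mul_left_cancel he'))
  have hodd : ∀ z, Nat.card (C z) % 2 = 1 := by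
    intro z
    have h1 : Nat.card (C z) ∣ Fintype.card Ω - 1 := hKcard ▸ Subgroup.card_dvd_of_le
      (inf_le_left.trans inf_le_left)
    rw [← Nat.not_even_iff, even_iff_two_dvd]
    exact fun h => hnd (hidx ▸ h.trans h1)
  have hA : 3 ≤ Nat.card (C x) := by
    have h1 : 1 < Nat.card (C x) := by
      rw [Finite.one_lt_card_iff_nontrivial]
      refine ⟨⟨kd, (hCmem _ _).2 ⟨hkdL, (hfixiff x hx kd hkd).1 hxd⟩⟩, 1, fun h => hd ?_⟩
      have : kd = 1 := congrArg Subtype.val h
      rw [this, one_smul]; exact right_mem_line a b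
    have := hodd x; omega
  have hB : 3 ≤ Nat.card (C y) := by
    have h1 : 1 < Nat.card (C y) := by
      rw [Finite.one_lt_card_iff_nontrivial]
      refine ⟨⟨kc, (hCmem _ _).2 ⟨hkcL, (hfixiff y hy kc hkc).1 hyc⟩⟩, 1, fun h => hc ?_⟩
      have : kc = 1 := congrArg Subtype.val h
      rw [this, one_smul]; exact right_mem_line a b
    have := hodd y; omega
  have hC : 1 ≤ Nat.card (C (x * y)) := Nat.card_pos
  -- L is covered by the three centralisers
  have hcover : ∀ k ∈ L, k ∈ C x ∨ k ∈ C y ∨ k ∈ C (x * y) := by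
    intro k hk
    have hiff := fun z (hz : z ∈ H) => hfixiff z hz k hk.1
    by_cases h1 : x • (k • b) = k • b
    · exact Or.inl ((hCmem _ _).2 ⟨hk, (hiff x hx).1 h1⟩)
    by_cases h3 : y • (k • b) = k • b
    · exact Or.inr (Or.inl ((hCmem _ _).2 ⟨hk, (hiff y hy).1 h3⟩))
    refine Or.inr (Or.inr ((hCmem _ _).2 ⟨hk, (hiff _ (H.mul_mem hx hy)).1 ?_⟩))
    refine hmove _ (fun e => h1 (e x hx)) x hx y hy h1 h3
  have hsum : Nat.card L + 2 ≤ Nat.card (C x) + Nat.card (C y) + Nat.card (C (x * y)) := by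
    have hLs : (L : Set G) \ {1} ⊆
        ((C x : Set G) \ {1}) ∪ ((C y : Set G) \ {1}) ∪ ((C (x * y) : Set G) \ {1}) := by
      rintro k ⟨hk, hk1⟩
      rcases hcover k hk with h | h | h
      · exact Or.inl (Or.inl ⟨h, hk1⟩)
      · exact Or.inl (Or.inr ⟨h, hk1⟩)
      · exact Or.inr ⟨h, hk1⟩
    have hd1 : ∀ S : Subgroup G, ((S : Set G) \ {1}).ncard + 1 = Nat.card S := fun S => by
      rw [Set.ncard_sdiff_singleton_add_one S.one_mem (Set.toFinite _), ← Nat.card_coe_set_eq]
      rfl
    have hle := (Set.ncard_le_ncard hLs (Set.toFinite _)).trans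
      ((Set.ncard_union_le _ _).trans (Nat.add_le_add_right (Set.ncard_union_le _ _) _))
    have := hd1 L; have := hd1 (C x); have := hd1 (C y); have := hd1 (C (x * y))
    omega
  have hxy := hpair x y htriv
  have hxz := hpair x (x * y) fun k hk h1 h3 => htriv k hk h1 (mul_left_cancel (a := x) (by
    calc x * (y * k) = (x * y) * k := by group
      _ = k * (x * y) := h3
      _ = (k * x) * y := by group
      _ = (x * k) * y := by rw [h1]
      _ = x * (k * y) := by group))
  have hyz := hpair y (x * y) fun k hk h1 h3 => htriv k hk (mul_right_cancel (b := y) (by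
    calc x * k * y = x * (k * y) := by group
      _ = x * (y * k) := by rw [h1]
      _ = (x * y) * k := by group
      _ = k * (x * y) := h3
      _ = k * x * y := by group)) h1
  have hoddC := hodd (x * y)
  rcases Nat.lt_or_ge (Nat.card (C (x * y))) 3 with hc1 | hc3
  · have : Nat.card (C (x * y)) = 1 := by omega
    nlinarith
  · nlinarith

end CfsgLib.Perm.DerangeTwo
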