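import Mathlib
import Cfsg.Agent.Lib.Perm.DerangeTwo.Small
import Cfsg.Agent.Lib.Perm.DerangeTwo.Hyperplanes

/-!
At least `2|G|/n` derangements in a two-transitive group that is not sharply two-transitive.
-/

set_option autoImplicit false

namespace CfsgLib.Perm.DerangeTwo

open MulAction

variable {G Ω : Type*} [Group G] [Finite G] [MulAction G Ω] [FaithfulSMul G Ω] [Fintype Ω]

theorem seven_sharp (h2 : IsMultiplyPretransitive G Ω 2) (hn : Fintype.card Ω = 7) {a b : Ω} (hab : a ≠ b)
    (hh : Nat.card (H2 G a b) ≤ 3) (h1 : 1 < Nat.card (H2 G a b)) : False := by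
  classical
  haveI := Fintype.ofFinite G
  haveI : IsPretransitive G Ω := isPretransitive_of_is_two_pretransitive
  haveI := Fact.mk (show Nat.Prime 7 by norm_num)
  set h := Nat.card (H2 G a b) with hhd
  have hG : Nat.card G = 42 * h := by
    have := (card_formulas h2 hab).2
    rw [hn] at this
    have h3 : (Fintype.card G : ℚ) = ((42 * h : ℕ) : ℚ) := by rw [this]; push_cast; ring
    rw [Nat.card_eq_fintype_card]; exact_mod_cast h3
  obtain ⟨P⟩ : Nonempty (Sylow 7 G) := inferInstance
  have hP : Nat.card P = 7 := by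
    obtain ⟨j, hj⟩ := P.2.exists_card_eq
    have h3 : 7 ^ j ∣ 42 * h := hj ▸ hG ▸ Subgroup.card_subgroup_dvd_card (P : Subgroup G)
    have hj1 : j ≤ 1 := by
      by_contra hc
      have := (pow_dvd_pow 7 (show 2 ≤ j by omega)).trans h3
      interval_cases h <;> norm_num at this
    have : 7 ∣ Nat.card P := P.dvd_card_of_dvd_card (hG ▸ Dvd.intro (6 * h) (by ring))
    rw [hj]
    rcases Nat.le_one_iff_eq_zero_or_eq_one.1 hj1 with rfl | rfl
    · exfalso
      have hc : Nat.card P = 1 := by rw [hj, pow_zero]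
      rw [hc] at this
      omega
    · rfl
  have hs : Nat.card (Sylow 7 G) = 1 := by
    have h3 := card_sylow_modEq_one 7 G
    have h4 := P.card_dvd_index
    have h5 : (P : Subgroup G).index = 6 * h := by
      have := (P : Subgroup G).card_mul_index
      rw [hP, hG] at this
      omega
    rw [h5] at h4
    have h6 := Nat.le_of_dvd (by omega) h4
    unfold Nat.ModEq at h3
    by_contra hne
    rcases (show Nat.card (Sylow 7 G) = 8 ∨ Nat.card (Sylow 7 G) = 15 by omega) with h7 | h7 <;>
      · rw [h7] at h4; interval_cases h <;> norm_num at h4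
  haveI : Subsingleton (Sylow 7 G) := (Nat.card_eq_one_iff_unique.1 hs).1
  haveI hPn : (P : Subgroup G).Normal := Sylow.normal_of_subsingleton P
  have horb : ∀ c : Ω, (orb (P : Subgroup G) c).ncard = 7 := by
    intro c
    obtain ⟨j, hj⟩ := P.2.card_orbit c
    rw [Nat.card_coe_set_eq, ← orb_eq_orbit] at hj
    have hle : (orb (P : Subgroup G) c).ncard ≤ 7 := by
      have h3 := Set.ncard_le_ncard (Set.subset_univ (orb (P : Subgroup G) c))
      rwa [Set.ncard_univ, Nat.card_eq_fintype_card, hn] at h3
    rcases j with _ | _ | j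
    · exfalso
      -- `P` fixes `c`, hence everything
      rw [pow_zero] at hj
      have hfix : ∀ p ∈ P, p • c = c := by
        intro p hp
        obtain ⟨u, hu⟩ := Set.ncard_eq_one.1 hj
        have h3 := hu ▸ smul_mem_orb (c := c) (H := (P : Subgroup G)) hp
        have h4 := hu ▸ mem_orb_self (P : Subgroup G) c
        exact h3.trans h4.symm
      have hbot : (P : Subgroup G) = ⊥ := by
        rw [eq_bot_iff]
        intro p hp
        rw [Subgroup.mem_bot]
        apply eq_of_smul_eq_smul (α := Ω)
        intro d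
        obtain ⟨g, rfl⟩ := exists_smul_eq G c d
        have := hfix _ (hPn.conj_mem p hp g⁻¹)
        rw [inv_inv, mul_smul, mul_smul, inv_smul_eq_iff] at this
        rw [one_smul, this]
      have : Nat.card (P : Subgroup G) = 1 := by rw [hbot, Subgroup.card_bot]
      omega
    · exact hj
    · exfalso
      rw [hj, pow_succ, pow_succ] at hle
      have : 1 ≤ 7 ^ j := Nat.one_le_pow _ _ (by norm_num)
      omega
  have hfree : ∀ p ∈ P, ∀ c : Ω, p • c = c → p = 1 := by
    intro p hp c hpc
    have := ncard_orb_mul (P : Subgroup G) c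
    rw [horb c, hP] at this
    have h3 : Nat.card ↥((P : Subgroup G) ⊓ stabilizer G c) = 1 := by omega
    have : p ∈ (P : Subgroup G) ⊓ stabilizer G c := ⟨hp, hpc⟩
    rwa [Subgroup.eq_bot_of_card_eq _ h3, Subgroup.mem_bot] at this
  have huniv : ∀ c d : Ω, d ∈ orb (P : Subgroup G) c := by
    intro c d
    have : orb (P : Subgroup G) c = Set.univ := Set.eq_of_subset_of_ncard_le (Set.subset_univ _)
      (by rw [Set.ncard_univ, Nat.card_eq_fintype_card, hn, horb c])
    rw [this]; trivial
  obtain ⟨⟨x, hx⟩, hne⟩ : ∃ x : H2 G a b, x ≠ 1 := by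
    haveI := Finite.one_lt_card_iff_nontrivial.1 h1
    exact exists_ne 1
  apply hne
  obtain ⟨k, hk, hkb⟩ := huniv a b
  have hkb : k • a = b := hkb
  have hk1 : k ≠ 1 := fun h => hab (by rw [← hkb, h, one_smul])
  have hxk : x * k * x⁻¹ = k := by
    have h3 : k⁻¹ * (x * k * x⁻¹) ∈ P := Subgroup.mul_mem _ (Subgroup.inv_mem _ hk) (hPn.conj_mem k hk x)
    have h4 : (k⁻¹ * (x * k * x⁻¹)) • a = a := by
      rw [mul_smul, mul_smul, mul_smul, inv_smul_eq_iff.2 (mem_H2.1 hx).1.symm, hkb, (mem_H2.1 hx).2,
        inv_smul_eq_iff, hkb]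
    exact (inv_mul_eq_one.1 (hfree _ h3 a h4)).symm
  have hgen : (P : Subgroup G) = Subgroup.zpowers k := by
    refine (Subgroup.eq_of_le_of_card_ge (Subgroup.zpowers_le.2 hk) ?_).symm
    rw [hP, Nat.card_zpowers]
    have : orderOf k ∣ 7 := hP ▸ Subgroup.orderOf_dvd_natCard _ hk
    rcases (Nat.dvd_prime (by norm_num)).1 this with h3 | h3
    · exact absurd (orderOf_eq_one_iff.1 h3) hk1
    · exact h3.ge
  refine Subtype.ext (eq_of_smul_eq_smul (α := Ω) fun d => ?_)
  obtain ⟨p, hp, hpd⟩ := huniv a d
  have hpd : p • a = d := hpd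
  rw [SetLike.mem_coe, hgen] at hp
  obtain ⟨i, rfl⟩ := Subgroup.mem_zpowers_iff.1 hp
  have hc : Commute x k := mul_inv_eq_iff_eq_mul.1 hxk
  rw [OneMemClass.coe_one, one_smul, ← hpd, ← mul_smul, (hc.zpow_right i).eq, mul_smul, (mem_H2.1 hx).1]

/-- The case of three fixed points. -/
theorem good_three (h2 : IsMultiplyPretransitive G Ω 2) (hn : 7 ≤ Fintype.card Ω) {a b : Ω} (hab : a ≠ b)
    [Fintype (H2 G a b)] (hk : (line G a b).ncard = 3) (h1 : 1 < Fintype.card (H2 G a b)) :
    Good Ω (H2 G a b) := by
  classical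
  set h := Fintype.card (H2 G a b) with hhd
  have hhN : Nat.card (H2 G a b) = h := Nat.card_eq_fintype_card
  set n := Fintype.card Ω with hnd
  have hodd : n % 2 = 1 := by
    have := flat_dvd h2 hab flat_univ (Set.mem_univ a)
    rw [hk, Set.ncard_univ, Nat.card_eq_fintype_card] at this
    omega
  have hf : ∀ x ∈ H2 G a b, x ≠ 1 → 2 * f Ω x + 1 ≤ n ∧ f Ω x % 2 = 1 := by
    intro x hx hx1
    refine ⟨by simpa [hk] using f_bound h2 hab hx1, ?_⟩
    have := flat_dvd h2 hab (flat_fixedBy (Ω := Ω) x) (show a ∈ fixedBy Ω x from (mem_H2.1 hx).1)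
    rw [hk, ← Nat.card_coe_set_eq] at this
    have h3 := two_le_f hab hx
    change 2 ≤ Nat.card (fixedBy Ω x) at h3
    change Nat.card (fixedBy Ω x) % 2 = 1
    omega
  have h11 : n ≠ 11 := by
    intro h11
    have := pairs_dvd h2 hab
    rw [hk, ← hnd, h11] at this
    norm_num at this
  by_cases h7 : n = 7
  · rcases Nat.lt_or_ge h 4 with hh | hh
    · exact (seven_sharp h2 h7 hab (by omega) (by omega)).elim
    · exact good_of_bound hab h1 3 (fun x hx hx1 => by have := (hf x hx hx1).1; omega)
        (by rw [← hhd, ← hnd, h7]; omega)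
  by_cases h9 : n = 9
  · exact good_of_bound hab h1 3 (fun x hx hx1 => by obtain ⟨_, _⟩ := hf x hx hx1; omega)
      (by rw [← hhd, ← hnd, h9]; omega)
  have hn13 : 13 ≤ n := by omega
  obtain ⟨m, hm⟩ : ∃ m, n = 2 * m + 1 := ⟨n / 2, by omega⟩
  by_cases hsm : m + 1 ≤ h
  · refine good_of_bound hab h1 m (fun x hx hx1 => by have := (hf x hx hx1).1; omega) ?_
    rw [← hhd, ← hnd, hm]
    obtain ⟨e, he⟩ := Nat.exists_eq_add_of_le h1.le
    rw [he, show 2 * (1 + e) - 1 = 2 * e + 1 by omega, show 1 + e - 1 = e by omega]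
    nlinarith
  refine good_of_S1 hab h1 ?_
  rw [← hhd, ← hnd]
  by_contra hV'
  push Not at hV'
  set S := S1 Ω (H2 G a b) with hS
  have hV : Fintype.card Ω * Nat.card (H2 G a b) < 2 * S := by
    rw [hhN, ← hnd]
    by_contra hc
    push Not at hc
    have := Nat.mul_le_mul_right h hc
    have h4 : (2 * h - 1) * S ≤ 2 * h * S := Nat.mul_le_mul_right S (Nat.sub_le _ _)
    nlinarith
  have hfx : fixs Ω (H2 G a b) = line G a b := rfl
  set H := H2 G a b with hH
  have hlo := long_orbits H hV
  -- no three long orbits, and lengths at most four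
  have hl4 : ∀ c, c ∉ line G a b → (orb H c).ncard ≤ 4 := by
    intro c hc
    have := hlo {c} (by simpa [hfx] using hc) (by simp)
    rw [Finset.sum_singleton, hfx, hk] at this
    omega
  have htwo : ∀ c d, c ∉ line G a b → d ∉ line G a b → d ∉ orb H c →
      (orb H c).ncard + (orb H d).ncard ≤ 6 := by
    intro c d hc hd hdo
    have hcd : c ≠ d := fun e => hdo (e ▸ mem_orb_self H c)
    have hnd' : c ∉ orb H d := fun e => hdo (by rw [orb_eq_of_mem e]; exact mem_orb_self H d)
    have := hlo {c, d} (by
      intro x hx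
      rw [Finset.mem_insert, Finset.mem_singleton] at hx
      rcases hx with rfl | rfl
      · exact hc
      · exact hd) (by
      intro x hx y hy hxy
      rw [Finset.mem_insert, Finset.mem_singleton] at hx hy
      rcases hx with rfl | rfl <;> rcases hy with rfl | rfl
      · exact absurd rfl hxy
      · exact hdo
      · exact hnd'
      · exact absurd rfl hxy)
    rw [Finset.sum_pair hcd, hfx, hk] at this
    omega
  have hthree : ∀ c d e, c ∉ line G a b → d ∉ line G a b → e ∉ line G a b → d ∉ orb H c → e ∉ orb H c →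
      e ∉ orb H d → (orb H c).ncard + (orb H d).ncard + (orb H e).ncard ≤ 8 := by
    intro c d e hc hd he hdc hec hed
    have hsym : ∀ u v : Ω, v ∉ orb H u → u ∉ orb H v := fun u v h e => h (by
      rw [orb_eq_of_mem e]; exact mem_orb_self H v)
    have h1' : c ≠ d := fun h => hdc (h ▸ mem_orb_self H c)
    have h2' : c ≠ e := fun h => hec (h ▸ mem_orb_self H c)
    have h3' : d ≠ e := fun h => hed (h ▸ mem_orb_self H d)
    have := hlo {c, d, e} (by
      intro x hx
      simp only [Finset.mem_insert, Finset.mem_singleton] at hx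
      rcases hx with rfl | rfl | rfl
      · exact hc
      · exact hd
      · exact he) (by
      intro x hx y hy hxy
      simp only [Finset.mem_insert, Finset.mem_singleton] at hx hy
      rcases hx with rfl | rfl | rfl <;> rcases hy with rfl | rfl | rfl
      all_goals first
        | exact absurd rfl hxy
        | assumption
        | exact hsym _ _ (by assumption))
    rw [Finset.sum_insert (by simp [h1', h2']), Finset.sum_pair h3', hfx, hk] at this
    omega
  -- all elements are involutions
  have hsq : ∀ x ∈ H, x * x = 1 := by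
    intro x hx
    by_contra hne
    have hxx := H.mul_mem hx hx
    obtain ⟨hb, -⟩ := hf _ hxx hne
    -- the moved points lie in two long orbits
    have hmoved : ∀ c, (x * x) • c ≠ c → c ∉ line G a b ∧ 3 ≤ (orb H c).ncard := by
      intro c hc
      have h0 : c ∉ line G a b := fun h => hc (h _ hxx)
      refine ⟨h0, ?_⟩
      by_contra h3
      exact hc (by rw [mul_smul]; exact sq_fix (by omega) hx)
    set B := Finset.univ.filter fun c : Ω => (x * x) • c ≠ c with hB
    have hB6 : B.card ≤ 6 := by
      by_cases hne' : B.Nonempty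
      · obtain ⟨c, hc⟩ := hne'
        obtain ⟨hc0, hc3⟩ := hmoved c (Finset.mem_filter.1 hc).2
        by_cases hsub : ∀ d ∈ B, d ∈ orb H c
        · have : B ⊆ (orb H c).toFinset := fun d hd => Set.mem_toFinset.2 (hsub d hd)
          have := Finset.card_le_card this
          rw [← Set.ncard_eq_toFinset_card'] at this
          have := hl4 c hc0
          omega
        push Not at hsub
        obtain ⟨d, hd, hdo⟩ := hsub
        obtain ⟨hd0, hd3⟩ := hmoved d (Finset.mem_filter.1 hd).2
        have : B ⊆ (orb H c).toFinset ∪ (orb H d).toFinset := by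
          intro e he
          obtain ⟨he0, he3⟩ := hmoved e (Finset.mem_filter.1 he).2
          by_contra heu
          simp only [Finset.mem_union, Set.mem_toFinset, not_or] at heu
          have := hthree c d e hc0 hd0 he0 hdo heu.1 heu.2
          omega
        have := (Finset.card_le_card this).trans (Finset.card_union_le _ _)
        rw [← Set.ncard_eq_toFinset_card', ← Set.ncard_eq_toFinset_card'] at this
        have := htwo c d hc0 hd0 hdo
        omega
      · rw [Finset.not_nonempty_iff_eq_empty.1 hne', Finset.card_empty]; omega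
    have hfc : f Ω (x * x) + B.card = n := by
      rw [f, Nat.card_eq_fintype_card, Fintype.card_subtype, hnd, ← Finset.card_univ, hB,
        ← Finset.card_filter_add_card_filter_not (s := (Finset.univ : Finset Ω)) (fun c => (x * x) • c = c)]
      congr 2
    omega
  have hp : IsPGroup 2 H := fun x => ⟨1, by rw [pow_one, pow_two]; exact Subtype.ext (hsq x x.2)⟩
  haveI := Fact.mk Nat.prime_two
  have h24 : ∀ c, c ∉ line G a b → (orb H c).ncard = 2 ∨ (orb H c).ncard = 4 := by
    intro c hc
    have h5 := hl4 c hc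
    have h6 := two_le_orb (H := H) hc
    obtain ⟨j, hj⟩ := hp.card_orbit c
    rw [Nat.card_coe_set_eq, ← orb_eq_orbit] at hj
    rcases j with _ | _ | j
    · rw [pow_zero] at hj; omega
    · exact Or.inl hj
    · rw [hj, pow_succ, pow_succ] at h5
      have : 1 ≤ 2 ^ j := Nat.one_le_pow _ _ (by norm_num)
      right; rw [hj, pow_succ, pow_succ]; omega
  by_cases hall : ∀ c, c ∉ line G a b → (orb H c).ncard = 2
  · have h5 := two_S1_short H hall
    rw [← hS, hhN, hfx, hk, ← hnd] at h5
    have h6 := hyperplanes h2 hab hk hall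
    rw [hhN, ← hnd] at h6
    obtain ⟨e, he⟩ := Nat.exists_eq_add_of_le h1.le
    rw [he, show 2 * (1 + e) - 1 = 2 * e + 1 by omega] at hV'
    rw [he] at h5 h6
    rw [show 1 + e - 1 = e by omega] at h6
    nlinarith
  push Not at hall
  obtain ⟨c, hc, hc2⟩ := hall
  have hc4 : (orb H c).ncard = 4 := (h24 c hc).resolve_left hc2
  have hrest : ∀ d, d ∉ line G a b → d ∉ orb H c → (orb H d).ncard = 2 := by
    intro d hd hdo
    refine (h24 d hd).resolve_right fun h => ?_
    have := htwo c d hc hd hdo
    omega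
  have hO : Disjoint (line G a b).toFinset (orb H c).toFinset := by
    rw [Finset.disjoint_left]
    intro d hd hdo
    rw [Set.mem_toFinset] at hd hdo
    obtain ⟨g, hg, rfl⟩ := hdo
    refine hc fun t ht => ?_
    have := hd (g * t * g⁻¹) (H.mul_mem (H.mul_mem hg ht) (H.inv_mem hg))
    simp only [mul_smul, inv_smul_smul] at this
    exact MulAction.injective g this
  have hv : ∀ d : Ω, (4 : ℤ) * (Nat.card ↥(H ⊓ stabilizer G d) : ℤ) =
      2 * h + (if d ∈ line G a b then (2 * h : ℤ) else 0) - (if d ∈ orb H c then (h : ℤ) else 0) := by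
    intro d
    by_cases hd : d ∈ line G a b
    · rw [if_pos hd, if_neg (fun hdo => Finset.disjoint_left.1 hO (Set.mem_toFinset.2 hd) (Set.mem_toFinset.2 hdo)),
        show H ⊓ stabilizer G d = H from inf_eq_left.2 fun g hg => hd g hg, hhN]
      ring
    · have h3 := ncard_orb_mul H d
      rw [hhN] at h3
      rw [if_neg hd]
      by_cases hdo : d ∈ orb H c
      · rw [orb_eq_of_mem hdo, hc4] at h3
        rw [if_pos hdo, ← h3]; push_cast; ring
      · rw [hrest d hd hdo] at h3
        rw [if_neg hdo, ← h3]; push_cast; ring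
  have hSz : (4 : ℤ) * S = 2 * h * (n : ℤ) + 2 * h * 3 - h * 4 := by
    rw [hS, S1, Nat.cast_sum, Finset.mul_sum, Finset.sum_congr rfl fun d _ => hv d, Finset.sum_sub_distrib,
      Finset.sum_add_distrib, Finset.sum_const, ← Finset.sum_filter, ← Finset.sum_filter, Finset.sum_const,
      Finset.sum_const, Finset.card_univ, ← hnd]
    have e1 : (Finset.univ.filter fun d : Ω => d ∈ line G a b).card = 3 := by
      rw [← hk, Set.ncard_eq_toFinset_card']; congr 1; ext; simp
    have e2 : (Finset.univ.filter fun d : Ω => d ∈ orb H c).card = 4 := by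
      rw [← hc4, Set.ncard_eq_toFinset_card']; congr 1; ext; simp
    rw [e1, e2]; simp; ring
  have hV2 : ((n * h ^ 2 : ℕ) : ℤ) < (((2 * h - 1) * S : ℕ) : ℤ) := by exact_mod_cast hV'
  push_cast [Nat.cast_sub (show 1 ≤ 2 * h by omega)] at hV2
  have h7' : (2 * h : ℤ) ≤ n := by omega
  nlinarith

/-- The bound in the two-transitive case. -/
theorem bound_of_two (h2 : IsMultiplyPretransitive G Ω 2) (hn : 7 ≤ Fintype.card Ω) {a b : Ω} (hab : a ≠ b)
    (h1 : 1 < Nat.card (H2 G a b)) :
    2 * Nat.card G ≤ Fintype.card Ω * Nat.card {g : G // ∀ ω : Ω, g • ω ≠ ω} := by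
  classical
  haveI := Fintype.ofFinite G
  haveI := Fintype.ofFinite (H2 G a b)
  refine Good.conclude h2 hab ?_
  have h1' : 1 < Fintype.card (H2 G a b) := by rwa [← Nat.card_eq_fintype_card]
  have hk2 : 2 ≤ (line G a b).ncard := (Set.one_lt_ncard (Set.toFinite _)).2
    ⟨a, left_mem_line a b, b, right_mem_line a b, hab⟩
  set n := Fintype.card Ω with hnd
  rcases (show (line G a b).ncard = 2 ∨ (line G a b).ncard = 3 ∨ 4 ≤ (line G a b).ncard by omega) with hk | hk | hk
  · refine good_of_S1 hab h1' ?_
    rw [← hnd]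
    by_contra hV'
    push Not at hV'
    set h := Fintype.card (H2 G a b) with hhd
    set S := S1 Ω (H2 G a b) with hS
    have hhN : Nat.card (H2 G a b) = h := Nat.card_eq_fintype_card
    have hV : Fintype.card Ω * Nat.card (H2 G a b) < 2 * S := by
      rw [hhN, ← hnd]
      by_contra hc
      push Not at hc
      have := Nat.mul_le_mul_right h hc
      have h4 : (2 * h - 1) * S ≤ 2 * h * S := Nat.mul_le_mul_right S (Nat.sub_le _ _)
      nlinarith
    have hs := small_short h2 (by omega) hk hab hV
    have hc := small_card h2 hab hk hs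
    have h5 := two_S1_short (H2 G a b) hs
    rw [← hS, hhN, ← hnd, show fixs Ω (H2 G a b) = line G a b from rfl, hk] at h5
    rw [hhN] at hc
    have : h = 2 := by omega
    rw [this] at hV' h5
    norm_num at hV'
    omega
  · exact good_three h2 hn hab hk h1'
  · refine good_of_bound hab h1' ((n - 1) / 3) (fun x hx hx1 => ?_) ?_
    · have := f_bound h2 hab hx1
      have h3 : 3 * f Ω x ≤ ((line G a b).ncard - 1) * f Ω x := Nat.mul_le_mul_right _ (by omega)
      rw [Nat.le_div_iff_mul_le (by norm_num)]
      omega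
    · rw [← hnd]
      obtain ⟨e, he⟩ := Nat.exists_eq_add_of_le h1'.le
      rw [he, show 2 * (1 + e) - 1 = 2 * e + 1 by omega, show 1 + e - 1 = e by omega]
      have h3 : (n - 1) / 3 * 3 ≤ n := (Nat.div_mul_le_self _ _).trans (Nat.sub_le _ _)
      have : 1 ≤ e := by omega
      nlinarith

end CfsgLib.Perm.DerangeTwo
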